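import Mathlib

/-!
# Linear representation of the automorphisms of an elementary abelian group over a closed field
-/

set_option autoImplicit false

namespace Cfsg.Lib.SymThree

open Module TensorProduct

universe u

theorem exists_baseChange_rep (F : Type) [Field F] (K : Type) [Field K] [Algebra F K]
    {M : Type u} [AddCommGroup M] [Module F M] [FiniteDimensional F M] {G : Type*} [Monoid G]
    (ρ1 : G →* Module.End F M) (hinj : Function.Injective ρ1) :
    ∃ (W : Type u) (_ : AddCommGroup W) (_ : Module K W) (_ : FiniteDimensional K W)
      (ρ : G →* Module.End K W),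
      Function.Injective ρ ∧ ∀ l : List G, (l.map ρ1).sum = 0 → (l.map ρ).sum = 0 := by
  let Φ := Module.End.baseChangeHom F K M
  refine ⟨K ⊗[F] M, inferInstance, inferInstance, inferInstance,
    (Φ : Module.End F M →* Module.End K (K ⊗[F] M)).comp ρ1, ?_, ?_⟩
  · intro x y hxy
    refine hinj (LinearMap.ext fun v => ?_)
    have h := LinearMap.congr_fun hxy (1 ⊗ₜ[F] v)
    have hi : Function.Injective (TensorProduct.mk F K M 1) := by
      have hf := Module.Flat.rTensor_preserves_injective_linearMap (M := M)
        (Algebra.linearMap F K) (algebraMap F K).injective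
      intro a b hab
      apply (TensorProduct.lid F M).symm.injective
      apply hf
      simpa using hab
    exact hi h
  · intro l hl
    have h2 : (l.map ((Φ : Module.End F M →* Module.End K (K ⊗[F] M)).comp ρ1))
        = (l.map ρ1).map Φ := by
      rw [List.map_map]; rfl
    rw [h2, ← map_list_sum, hl, map_zero]

/-- An automorphism as a linear map over the prime field. -/
def autEndHom {V : Type u} [CommGroup V] (p : ℕ) [Fact p.Prime] [Module (ZMod p) (Additive V)] :
    MulAut V →* Module.End (ZMod p) (Additive V) where
  toFun x :=
    { toFun := fun v => Additive.ofMul (x v.toMul)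
      map_add' := fun a b => congrArg Additive.ofMul (map_mul x a.toMul b.toMul)
      map_smul' := fun c v => ZMod.map_smul (MonoidHom.toAdditive x.toMonoidHom) c v }
  map_one' := LinearMap.ext fun v => rfl
  map_mul' x y := LinearMap.ext fun v => rfl

theorem autEndHom_sum {V : Type u} [CommGroup V] (p : ℕ) [Fact p.Prime]
    [Module (ZMod p) (Additive V)] (l : List (MulAut V))
    (hl : ∀ v : V, (l.map fun x => x v).prod = 1) :
    (l.map (autEndHom (V := V) p)).sum = 0 := by
  refine LinearMap.ext fun v => ?_
  have h1 : ∀ l' : List (MulAut V), (l'.map (autEndHom (V := V) p)).sum v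
      = Additive.ofMul ((l'.map fun x => x v.toMul).prod) := by
    intro l'
    induction l' with
    | nil => rfl
    | cons a as ih =>
      rw [List.map_cons, List.sum_cons, LinearMap.add_apply, ih, List.map_cons, List.prod_cons]
      rfl
  rw [h1, hl]
  rfl

/-- Automorphisms of an elementary abelian `p`-group act faithfully over an algebraically closed
field of characteristic `p`; vanishing orbit sums persist. -/
theorem exists_closed_rep {V : Type u} [CommGroup V] [Finite V] (p : ℕ) [Fact p.Prime]
    (hV : ∀ v : V, v ^ p = 1) :
    ∃ (W : Type u) (_ : AddCommGroup W) (_ : Module (AlgebraicClosure (ZMod p)) W)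
      (_ : FiniteDimensional (AlgebraicClosure (ZMod p)) W)
      (ρ : MulAut V →* Module.End (AlgebraicClosure (ZMod p)) W),
      Function.Injective ρ ∧ ∀ l : List (MulAut V),
        (∀ v : V, (l.map fun x => x v).prod = 1) → (l.map ρ).sum = 0 := by
  letI mZ : @Module (ZMod p) (Additive V) DivisionSemiring.toSemiring _ :=
    AddCommGroup.zmodModule (fun x => congrArg Additive.ofMul (hV x.toMul))
  haveI hfd : FiniteDimensional (ZMod p) (Additive V) := Module.Finite.of_finite
  let ρ1 := autEndHom (V := V) p
  obtain ⟨W, i1, i2, i3, ρ, hρ, hsum⟩ := @exists_baseChange_rep (ZMod p) _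
    (AlgebraicClosure (ZMod p)) _ _ (Additive V) _ mZ hfd (MulAut V) _ ρ1 (fun x y h => MulEquiv.ext fun v =>
      congrArg Additive.toMul (LinearMap.congr_fun h (Additive.ofMul v)))
  exact ⟨W, i1, i2, i3, ρ, hρ, fun l hl => hsum l (autEndHom_sum p l hl)⟩

end Cfsg.Lib.SymThree
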