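import Mathlib

/-!
# Pairs of elements generating an image of the symmetric group of degree three

`Datum s t` records the relations; `Inv` and `Free` say that a subgroup is normalized by both
elements, with trivial common fixed points.
-/

set_option autoImplicit false

namespace Cfsg.Lib.SymThree

open Subgroup

variable {Γ : Type*} [Group Γ]

/-- The relations of the symmetric group of degree three. -/
structure Datum (s t : Γ) : Prop where
  s_pow : s ^ 3 = 1
  t_mul : t * t = 1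
  t_s_t : t * s * t = s⁻¹

namespace Datum

variable {s t : Γ} (d : Datum s t)
include d

theorem t_inv : t⁻¹ = t := inv_eq_of_mul_eq_one_right d.t_mul

theorem t_t (x : Γ) : t * (t * x) = x := by rw [← mul_assoc, d.t_mul, one_mul]

theorem s_inv : s⁻¹ = s * s := inv_eq_of_mul_eq_one_right (by rw [← mul_assoc, ← d.s_pow, pow_succ, pow_two])

theorem s3 (x : Γ) : s * (s * (s * x)) = x := by
  rw [← mul_assoc, ← mul_assoc, show s * s * s = s ^ 3 by rw [pow_succ, pow_two], d.s_pow, one_mul]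

theorem s3' : s * (s * s) = 1 := by simpa using d.s3 1

theorem t_s (x : Γ) : t * (s * x) = s * (s * (t * x)) := by
  have h : t * s = s * s * t := by
    rw [← d.s_inv, ← d.t_s_t, mul_assoc (t * s), d.t_mul, mul_one]
  rw [← mul_assoc, h, mul_assoc, mul_assoc]

theorem t_s' : t * s = s * (s * t) := by simpa using d.t_s 1

/-- Replace the involution by the next one. -/
theorem rot : Datum s (t * s) where
  s_pow := d.s_pow
  t_mul := by simp only [mul_assoc, d.t_s, d.t_mul, mul_one, d.t_s', d.s3']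
  t_s_t := by
    simp only [mul_assoc, d.t_s, d.t_s', d.s_inv, d.s3, d.s3', d.t_mul, mul_one]

theorem rot2 : Datum s (t * (s * s)) := by
  simpa [mul_assoc] using d.rot.rot

end Datum

/-- Normalized by both elements. -/
def Inv (s t : Γ) (H : Subgroup Γ) : Prop :=
  ∀ h ∈ H, s * h * s⁻¹ ∈ H ∧ t * h * t⁻¹ ∈ H

/-- No common fixed points. -/
def Free (s t : Γ) (H : Subgroup Γ) : Prop :=
  ∀ h ∈ H, s * h * s⁻¹ = h → t * h * t⁻¹ = h → h = 1

theorem Inv.rot {s t : Γ} {H : Subgroup Γ} (h : Inv s t H) : Inv s (t * s) H := fun x hx =>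
  ⟨(h x hx).1, by
    rw [show t * s * x * (t * s)⁻¹ = t * (s * x * s⁻¹) * t⁻¹ by group]
    exact (h _ (h x hx).1).2⟩

theorem Free.rot {s t : Γ} {H : Subgroup Γ} (h : Free s t H) : Free s (t * s) H := by
  intro x hx h1 h2
  rw [show t * s * x * (t * s)⁻¹ = t * (s * x * s⁻¹) * t⁻¹ by group, h1] at h2
  exact h x hx h1 h2

theorem Free.mono {s t : Γ} {H K : Subgroup Γ} (h : Free s t H) (hle : K ≤ H) : Free s t K :=
  fun x hx => h x (hle hx)

/-- An element fixed modulo `N` by an element of prime order not dividing `|N|` can be adjusted. -/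
theorem exists_fixed_of_prime {x : Γ} {π : ℕ} [Fact π.Prime] (hx : x ^ π = 1) (N : Subgroup Γ)
    [Finite N] (hN : ∀ n ∈ N, x * n * x⁻¹ ∈ N) (hπ : ¬ π ∣ Nat.card N) (h : Γ)
    (hh : h⁻¹ * (x * h * x⁻¹) ∈ N) : ∃ n ∈ N, x * (h * n) * x⁻¹ = h * n := by
  classical
  have := Fintype.ofFinite N
  let f : N → N := fun n => ⟨h⁻¹ * (x * h * x⁻¹) * (x * n * x⁻¹), mul_mem hh (hN n n.2)⟩
  have hf : Function.Bijective f := Finite.injective_iff_bijective.mp fun a b hab => Subtype.ext <|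
    mul_left_cancel (mul_right_cancel (mul_left_cancel (congrArg Subtype.val hab)))
  let σ : Equiv.Perm N := Equiv.ofBijective f hf
  have hpow : ∀ (k : ℕ) (n : N), h * ((σ ^ k) n : Γ) = x ^ k * (h * n) * (x ^ k)⁻¹ := by
    intro k
    induction k with
    | zero => simp
    | succ k ih =>
      intro n
      rw [pow_succ', Equiv.Perm.mul_apply]
      show h * (h⁻¹ * (x * h * x⁻¹) * (x * ((σ ^ k) n : Γ) * x⁻¹)) = _
      rw [show h * (h⁻¹ * (x * h * x⁻¹) * (x * ((σ ^ k) n : Γ) * x⁻¹))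
        = x * (h * ((σ ^ k) n : Γ)) * x⁻¹ by group, ih, pow_succ']
      group
  have hσ : σ ^ π ^ 1 = 1 := Equiv.ext fun n => Subtype.ext <| mul_left_cancel (a := h) <| by
    rw [hpow, pow_one, hx, one_mul, inv_one, mul_one]; rfl
  obtain ⟨n, hn⟩ := Equiv.Perm.exists_fixed_point_of_prime
    (by rwa [← Nat.card_eq_fintype_card]) hσ
  refine ⟨n, n.2, ?_⟩
  have h1 := hpow 1 n
  rw [pow_one, hn, pow_one] at h1
  exact h1.symm

/-- Fixed points modulo a subgroup of order prime to six lift. -/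
theorem exists_fixed_lift {s t : Γ} (d : Datum s t) (N : Subgroup Γ) [Finite N] (hN : Inv s t N)
    (hcop : (Nat.card N).Coprime 6) (h : Γ) (hs : h⁻¹ * (s * h * s⁻¹) ∈ N)
    (ht : h⁻¹ * (t * h * t⁻¹) ∈ N) :
    ∃ n ∈ N, s * (h * n) * s⁻¹ = h * n ∧ t * (h * n) * t⁻¹ = h * n := by
  have h3 : Fact (Nat.Prime 3) := ⟨Nat.prime_three⟩
  have h2 : Fact (Nat.Prime 2) := ⟨Nat.prime_two⟩
  have hno : ∀ q, q.Prime → q ∣ 6 → ¬ q ∣ Nat.card N := fun q hq h6 hd =>
    hq.not_dvd_one (hcop.gcd_eq_one ▸ Nat.dvd_gcd hd h6)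
  obtain ⟨n, hn, hsn⟩ := exists_fixed_of_prime d.s_pow N (fun a ha => (hN a ha).1)
    (hno 3 h3.out (by norm_num)) h hs
  set N1 : Subgroup Γ := N ⊓ centralizer ({s} : Set Γ) with hN1
  have hN1mem : ∀ a, a ∈ N1 ↔ a ∈ N ∧ s * a * s⁻¹ = a := fun a => by
    rw [hN1, mem_inf, mem_centralizer_singleton_iff, mul_inv_eq_iff_eq_mul]
    exact and_congr_right fun _ => eq_comm
  have : Finite N1 := Finite.of_injective _ (inclusion_injective (inf_le_left : N1 ≤ N))
  have hconj : ∀ a : Γ, s * a * s⁻¹ = a → s * (t * a * t⁻¹) * s⁻¹ = t * a * t⁻¹ := by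
    intro a ha
    have h1 : s⁻¹ * a * s = a := by
      conv_lhs => rw [← ha]
      group
    have hl : s * t = t * s⁻¹ := by
      rw [← d.t_s_t, ← mul_assoc, ← mul_assoc, d.t_mul, one_mul]
    calc s * (t * a * t⁻¹) * s⁻¹ = (s * t) * a * (s * t)⁻¹ := by group
      _ = t * (s⁻¹ * a * s) * t⁻¹ := by rw [hl]; group
      _ = _ := by rw [h1]
  obtain ⟨m, hm, htm⟩ := exists_fixed_of_prime (π := 2) (x := t) (by rw [pow_two, d.t_mul]) N1
    (fun a ha => (hN1mem _).mpr
      ⟨(hN a ((hN1mem a).mp ha).1).2, hconj a ((hN1mem a).mp ha).2⟩)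
    (fun hd => hno 2 h2.out (by norm_num) (hd.trans (card_dvd_of_le inf_le_left))) (h * n)
    ((hN1mem _).mpr ⟨by
      rw [show (h * n)⁻¹ * (t * (h * n) * t⁻¹)
        = n⁻¹ * (h⁻¹ * (t * h * t⁻¹)) * (t * n * t⁻¹) by group]
      exact mul_mem (mul_mem (inv_mem hn) ht) (hN n hn).2, by
      rw [show s * ((h * n)⁻¹ * (t * (h * n) * t⁻¹)) * s⁻¹
        = (s * (h * n) * s⁻¹)⁻¹ * (s * (t * (h * n) * t⁻¹) * s⁻¹) by group, hsn,
        hconj _ hsn]⟩)
  obtain ⟨hmN, hms⟩ := (hN1mem m).mp hm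
  refine ⟨n * m, mul_mem hn hmN, ?_, ?_⟩
  · rw [show s * (h * (n * m)) * s⁻¹ = (s * (h * n) * s⁻¹) * (s * m * s⁻¹) by group, hsn, hms]
    group
  · rw [show t * (h * (n * m)) * t⁻¹ = t * (h * n * m) * t⁻¹ by group, htm]; group

/-- A freely normalized group: an element fixed modulo `N` lies in `N`. -/
theorem mem_of_fixed_mod {s t : Γ} (d : Datum s t) {H N : Subgroup Γ} (hF : Free s t H) (hle : N ≤ H)
    [Finite N] (hN : Inv s t N) (hcop : (Nat.card N).Coprime 6) {h : Γ} (hh : h ∈ H)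
    (hs : h⁻¹ * (s * h * s⁻¹) ∈ N) (ht : h⁻¹ * (t * h * t⁻¹) ∈ N) : h ∈ N := by
  obtain ⟨n, hn, h1, h2⟩ := exists_fixed_lift d N hN hcop h hs ht
  rw [eq_inv_of_mul_eq_one_left (hF _ (mul_mem hh (hle hn)) h1 h2)]
  exact inv_mem hn

/-- The fixed points of the element of order three form an abelian group. -/
theorem commute_of_fixed {s t : Γ} (d : Datum s t) {H : Subgroup Γ} [Finite H] (hI : Inv s t H)
    (hF : Free s t H) {a b : Γ} (ha : a ∈ H) (hb : b ∈ H) (hsa : s * a * s⁻¹ = a)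
    (hsb : s * b * s⁻¹ = b) : Commute a b := by
  set C : Subgroup Γ := H ⊓ centralizer ({s} : Set Γ) with hC
  have hCmem : ∀ x, x ∈ C ↔ x ∈ H ∧ s * x * s⁻¹ = x := fun x => by
    rw [hC, mem_inf, mem_centralizer_singleton_iff, mul_inv_eq_iff_eq_mul]
    exact and_congr_right fun _ => eq_comm
  have : Finite C := Finite.of_injective _ (inclusion_injective (inf_le_left : C ≤ H))
  let φ : C →* C :=
    { toFun := fun x => ⟨t * x * t⁻¹, (hCmem _).mpr ⟨(hI x ((hCmem _).mp x.2).1).2, by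
        have h0 := ((hCmem _).mp x.2).2
        have h1 : s⁻¹ * (x : Γ) * s = x := by
          conv_lhs => rw [← h0]
          group
        have hl : s * t = t * s⁻¹ := by
          rw [← d.t_s_t, ← mul_assoc, ← mul_assoc, d.t_mul, one_mul]
        calc s * (t * (x : Γ) * t⁻¹) * s⁻¹ = (s * t) * x * (s * t)⁻¹ := by group
          _ = t * (s⁻¹ * x * s) * t⁻¹ := by rw [hl]; group
          _ = _ := by rw [h1]⟩⟩
      map_one' := Subtype.ext (by simp)
      map_mul' := fun x y => Subtype.ext (by simp [mul_assoc]) }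
  have hφ : MonoidHom.FixedPointFree φ := fun x hx => Subtype.ext
    (hF x ((hCmem _).mp x.2).1 ((hCmem _).mp x.2).2 (congrArg Subtype.val hx))
  have h2 : Function.Involutive φ := fun x => Subtype.ext (by
    show t * (t * (x : Γ) * t⁻¹) * t⁻¹ = x
    rw [show t * (t * (x : Γ) * t⁻¹) * t⁻¹ = (t * t) * x * (t * t)⁻¹ by group, d.t_mul]
    simp)
  exact congrArg Subtype.val
    (hφ.commute_all_of_involutive h2 ⟨a, (hCmem a).mpr ⟨ha, hsa⟩⟩ ⟨b, (hCmem b).mpr ⟨hb, hsb⟩⟩).eq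

end Cfsg.Lib.SymThree
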