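import Cfsg.Agent.Lib.SymThree.Datum

/-!
# An irreducible elementary group acting on characters each fixed by some element of the symmetric group
-/

set_option autoImplicit false

namespace Cfsg.Lib.SymThree

open Subgroup

variable {X : Type*} [CommGroup X]

/-- `P` is elementary, irreducible and has no common fixed points. -/
structure Irred (σ τ : MulAut X) (P : Subgroup (MulAut X)) (q : ℕ) : Prop where
  prime : q.Prime
  five : 5 ≤ q
  exp : ∀ a ∈ P, a ^ q = 1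
  comm : ∀ a ∈ P, ∀ b ∈ P, a * b = b * a
  inv : Inv σ τ P
  free : Free σ τ P
  irred : ∀ P' ≤ P, Inv σ τ P' → P' = ⊥ ∨ P' = P

theorem conj_zpow_mul {G : Type*} [Group G] (x a b : G) (i j : ℤ) :
    x * (a ^ i * b ^ j) * x⁻¹ = (x * a * x⁻¹) ^ i * (x * b * x⁻¹) ^ j := by
  rw [conj_zpow, conj_zpow]; group

theorem conj_mul_sq {G : Type*} [Group G] (x a b : G) :
    x * (a * b ^ 2) * x⁻¹ = (x * a * x⁻¹) * (x * b * x⁻¹) ^ 2 := by
  rw [conj_pow]; group

theorem conj_inv_pow {G : Type*} [Group G] (x y : G) (n : ℕ) :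
    x * (y ^ n)⁻¹ * x⁻¹ = ((x * y * x⁻¹) ^ n)⁻¹ := by
  rw [conj_pow]; group

theorem fix_mid {a b c : MulAut X} (habc : b * (a * c) = 1) {x : X} (h1 : a x = x)
    (h2 : c x = x) : b x = x := by
  have h3 := DFunLike.congr_fun habc x
  rwa [MulAut.mul_apply, MulAut.mul_apply, h2, h1, MulAut.one_apply] at h3

variable {σ τ : MulAut X} {P : Subgroup (MulAut X)} {q : ℕ}

theorem Irred.rot (d : Datum σ τ) (h : Irred σ τ P q) : Irred σ (τ * σ) P q where
  prime := h.prime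
  five := h.five
  exp := h.exp
  comm := h.comm
  inv := h.inv.rot
  free := h.free.rot
  irred P' hle hinv := h.irred P' hle fun x hx => ⟨(hinv x hx).1, by
    have h1 := (hinv _ (hinv _ (hinv x hx).1).1).2
    rw [show τ * σ * (σ * (σ * x * σ⁻¹) * σ⁻¹) * (τ * σ)⁻¹ = τ * (σ ^ 3 * x * (σ ^ 3)⁻¹) * τ⁻¹ by
      simp [pow_succ, mul_assoc], d.s_pow] at h1
    simpa using h1⟩

theorem fix_of_pow {a : MulAut X} {n : ℕ} {e : ℤ} (ha : a ^ n = 1) (hcop : IsCoprime e (n : ℤ))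
    {x : X} (h : (a ^ e) x = x) : a x = x := by
  obtain ⟨u, v, huv⟩ := hcop
  have h1 : ∀ w : ℤ, ((a ^ e) ^ w) x = x := fun w => by
    induction w with
    | zero => simp
    | succ k ih => rw [zpow_add_one, MulAut.mul_apply, h, ih]
    | pred k ih =>
      have h0 : (a ^ e)⁻¹ x = x := by
        conv_lhs => rw [← h]
        exact MulEquiv.symm_apply_apply (a ^ e) x
      rw [zpow_sub_one, MulAut.mul_apply, h0, ih]
  have h2 := h1 u
  rwa [← zpow_mul, show e * u = 1 - (n : ℤ) * v by linarith, zpow_sub, zpow_mul, zpow_natCast, ha,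
    one_zpow, inv_one, mul_one, zpow_one] at h2

/-- Fixed points of the element of order three are fixed by its centralizer. -/
theorem fix_of_sigma (d : Datum σ τ) (hX : ∀ x, σ x = x → τ x = x → x = 1) (h : Irred σ τ P q)
    {ν : X} (hν : σ ν = ν) {k : MulAut X} (hk : k ∈ P) (hsk : σ * k * σ⁻¹ = k) : k ν = ν := by
  have hσi : ∀ y : X, σ y = y → σ (τ y) = τ y := fun y hy => by
    have h1 : σ * τ = τ * σ⁻¹ := by rw [← d.t_s_t, ← mul_assoc, ← mul_assoc, d.t_mul, one_mul]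
    have h2 : σ⁻¹ y = y := by conv_lhs => rw [← hy, ← MulAut.mul_apply, inv_mul_cancel, MulAut.one_apply]
    rw [← MulAut.mul_apply, h1, MulAut.mul_apply, h2]
  have hinv : ∀ y : X, σ y = y → τ y = y⁻¹ := fun y hy => by
    refine eq_inv_of_mul_eq_one_left (hX _ ?_ ?_)
    · rw [map_mul, hσi y hy, hy]
    · rw [map_mul, ← MulAut.mul_apply, d.t_mul, MulAut.one_apply, mul_comm]
  have htk : τ * k * τ⁻¹ = k⁻¹ := by
    have hst : σ * τ = τ * σ⁻¹ := by rw [← d.t_s_t, ← mul_assoc, ← mul_assoc, d.t_mul, one_mul]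
    have hsk' : σ⁻¹ * k * σ = k := by
      conv_lhs => rw [← hsk]
      group
    have hstk : σ * (τ * k * τ⁻¹) * σ⁻¹ = τ * k * τ⁻¹ := by
      calc σ * (τ * k * τ⁻¹) * σ⁻¹ = (σ * τ) * k * (σ * τ)⁻¹ := by group
        _ = τ * (σ⁻¹ * k * σ) * τ⁻¹ := by rw [hst]; group
        _ = _ := by rw [hsk']
    refine eq_inv_of_mul_eq_one_right (h.free _ (mul_mem hk (h.inv k hk).2) ?_ ?_)
    · rw [show σ * (k * (τ * k * τ⁻¹)) * σ⁻¹ = (σ * k * σ⁻¹) * (σ * (τ * k * τ⁻¹) * σ⁻¹) by group,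
        hsk, hstk]
    · rw [show τ * (k * (τ * k * τ⁻¹)) * τ⁻¹ = (τ * k * τ⁻¹) * ((τ * τ) * k * (τ * τ)⁻¹) by group,
        d.t_mul, one_mul, inv_one, mul_one]
      exact h.comm _ (h.inv k hk).2 _ hk
  have hkν : σ (k ν) = k ν := by
    conv_rhs => rw [← hsk]
    rw [MulAut.mul_apply, MulAut.mul_apply, show σ⁻¹ ν = ν by
      conv_lhs => rw [← hν, ← MulAut.mul_apply, inv_mul_cancel, MulAut.one_apply]]
  have h1 : τ (k ν) = k⁻¹ (τ ν) := by
    rw [← htk]; simp [MulAut.mul_apply]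
  rw [hinv _ hkν, hinv _ hν, map_inv, inv_inj] at h1
  have hodd : Odd q := h.prime.odd_of_ne_two (by linarith [h.five])
  refine fix_of_pow (n := q) (e := 2) (h.exp k hk) ?_ ?_
  · exact_mod_cast Nat.Coprime.isCoprime (Nat.coprime_two_left.mpr hodd)
  · rw [zpow_two, MulAut.mul_apply, h1, ← MulAut.mul_apply, mul_inv_cancel, MulAut.one_apply]

/-- The contradiction once an involution fixes a point and an element modulo its stabilizer. -/
theorem reflection_case (d : Datum σ τ) (hX : ∀ x, σ x = x → τ x = x → x = 1) {n : ℕ}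
    (hn : ∀ x : X, x ^ n = 1) (hnq : n.Coprime q) (h : Irred σ τ P q)
    (hs : ∀ a ∈ P, σ * a * σ⁻¹ = a → a = 1) {ν : X} (hν : τ ν = ν) {k : MulAut X} (hk : k ∈ P)
    (hkν : k ν ≠ ν) (hkfix : (τ * k * τ⁻¹) ν = k ν) {b : MulAut X} (hb : b ∈ P) (hb1 : b ≠ 1)
    (hbν : b ν = ν) : False := by
  have := Fact.mk h.prime
  have hodd : Odd q := h.prime.odd_of_ne_two (by linarith [h.five])
  have htb : ∀ a ∈ P, a ν = ν → (τ * a * τ⁻¹) ν = ν := fun a _ ha => by
    rw [MulAut.mul_apply, MulAut.mul_apply, d.t_inv, hν, ha, hν]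
  set u := k * (τ * k * τ⁻¹) with hu
  have huP : u ∈ P := mul_mem hk (h.inv k hk).2
  have hut : τ * u * τ⁻¹ = u := by
    rw [hu, show τ * (k * (τ * k * τ⁻¹)) * τ⁻¹ = (τ * k * τ⁻¹) * ((τ * τ) * k * (τ * τ)⁻¹) by group,
      d.t_mul, one_mul, inv_one, mul_one]
    exact h.comm _ (h.inv k hk).2 _ hk
  have huν : u ν ≠ ν := by
    intro hh
    refine hkν (fix_of_pow (n := q) (e := 2) (h.exp k hk)
      (by exact_mod_cast Nat.Coprime.isCoprime (Nat.coprime_two_left.mpr hodd)) ?_)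
    rw [hu, MulAut.mul_apply, hkfix] at hh
    rwa [zpow_two, MulAut.mul_apply]
  set u' := σ * u * σ⁻¹ with hu'
  have hu'P : u' ∈ P := (h.inv u huP).1
  have hprod : ∀ a ∈ P, a * (σ * a * σ⁻¹) * (σ * (σ * a * σ⁻¹) * σ⁻¹) = 1 := by
    intro a ha
    refine hs _ (mul_mem (mul_mem ha (h.inv a ha).1) (h.inv _ (h.inv a ha).1).1) ?_
    have e : σ * (σ * (σ * a * σ⁻¹) * σ⁻¹) * σ⁻¹ = a := by
      calc σ * (σ * (σ * a * σ⁻¹) * σ⁻¹) * σ⁻¹ = σ ^ 3 * a * (σ ^ 3)⁻¹ := by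
            simp [pow_succ, mul_assoc]
        _ = a := by rw [d.s_pow]; simp
    rw [show σ * (a * (σ * a * σ⁻¹) * (σ * (σ * a * σ⁻¹) * σ⁻¹)) * σ⁻¹
      = (σ * a * σ⁻¹) * (σ * (σ * a * σ⁻¹) * σ⁻¹) * (σ * (σ * (σ * a * σ⁻¹) * σ⁻¹) * σ⁻¹) by group,
      e, mul_assoc a]
    exact h.comm _ (mul_mem (h.inv a ha).1 (h.inv _ (h.inv a ha).1).1) _ ha
  have htu' : τ * u' * τ⁻¹ = σ * (σ * u * σ⁻¹) * σ⁻¹ := by
    have hl : τ * σ = σ * σ * τ := by rw [d.t_s', mul_assoc]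
    calc τ * u' * τ⁻¹ = (τ * σ) * u * (τ * σ)⁻¹ := by rw [hu']; group
      _ = σ * σ * (τ * u * τ⁻¹) * (σ * σ)⁻¹ := by rw [hl]; group
      _ = _ := by rw [hut]; group
  have htu'' : τ * u' * τ⁻¹ = u⁻¹ * u'⁻¹ := by
    rw [htu']
    have h1 := hprod u huP
    rw [mul_assoc] at h1
    rw [eq_inv_mul_iff_mul_eq]
    refine eq_inv_of_mul_eq_one_left ?_
    rw [mul_assoc, h.comm _ (h.inv _ hu'P).1 _ hu'P]
    exact h1
  -- the elements `u ^ i * u' ^ j`
  let S : Subgroup (MulAut X) :=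
    { carrier := {a | ∃ i j : ℤ, a = u ^ i * u' ^ j}
      one_mem' := ⟨0, 0, by simp⟩
      mul_mem' := by
        rintro _ _ ⟨i, j, rfl⟩ ⟨i', j', rfl⟩
        refine ⟨i + i', j + j', ?_⟩
        have hc : Commute (u' ^ j) (u ^ i') := Commute.zpow_zpow (h.comm _ hu'P _ huP) j i'
        rw [zpow_add, zpow_add, mul_assoc, ← mul_assoc (u' ^ j), hc.eq, mul_assoc, mul_assoc]
      inv_mem' := by
        rintro _ ⟨i, j, rfl⟩
        refine ⟨-i, -j, ?_⟩
        rw [mul_inv_rev, zpow_neg, zpow_neg]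
        exact ((Commute.zpow_zpow (h.comm _ hu'P _ huP) j i).inv_inv).eq }
  have hSP : S ≤ P := by
    rintro _ ⟨i, j, rfl⟩; exact mul_mem (zpow_mem huP i) (zpow_mem hu'P j)
  have huS : u ∈ S := ⟨1, 0, by simp⟩
  have hu'S : u' ∈ S := ⟨0, 1, by simp⟩
  have hS : S = P := by
    refine (h.irred S hSP ?_).resolve_left fun hbot => ?_
    · rintro _ ⟨i, j, rfl⟩
      have hconj : ∀ x : MulAut X, x * (u ^ i * u' ^ j) * x⁻¹ = (x * u * x⁻¹) ^ i * (x * u' * x⁻¹) ^ j :=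
        fun x => conj_zpow_mul x u u' i j
      refine ⟨?_, ?_⟩
      · rw [hconj, ← hu']
        have h1 : σ * u' * σ⁻¹ = u'⁻¹ * u⁻¹ := by
          have h1 := hprod u huP
          rw [← mul_inv_rev]
          exact eq_inv_of_mul_eq_one_right h1
        rw [h1]
        exact mul_mem (zpow_mem hu'S i)
          (zpow_mem (mul_mem (inv_mem hu'S) (inv_mem huS)) j)
      · rw [hconj, hut, htu'']
        exact mul_mem (zpow_mem huS i)
          (zpow_mem (mul_mem (inv_mem huS) (inv_mem hu'S)) j)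
    · have : u ∈ (⊥ : Subgroup (MulAut X)) := hbot ▸ ⟨1, 0, by simp⟩
      rw [mem_bot] at this
      exact huν (by rw [this]; rfl)
  set m := u * u' ^ 2 with hm
  have hmP : m ∈ P := mul_mem huP (pow_mem hu'P 2)
  have hmν : m ν = ν := by
    obtain ⟨i, j, hbij⟩ := (hS.ge hb : b ∈ S)
    have hbb : (b * (τ * b * τ⁻¹)) ν = ν := by rw [MulAut.mul_apply, htb b hb hbν, hbν]
    have h1 : τ * b * τ⁻¹ = u ^ (i - j) * u' ^ (-j) := by
      rw [hbij, conj_zpow_mul, hut, htu'',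
        (Commute.inv_inv (h.comm u huP u' hu'P)).mul_zpow, inv_zpow', inv_zpow',
        ← mul_assoc, ← zpow_add, sub_eq_add_neg]
    rw [h1, hbij, show u ^ i * u' ^ j * (u ^ (i - j) * u' ^ (-j)) = u ^ (2 * i - j) by
      have hc : Commute (u' ^ j) (u ^ (i - j)) := Commute.zpow_zpow (h.comm _ hu'P _ huP) _ _
      rw [mul_assoc, ← mul_assoc (u' ^ j), hc.eq, mul_assoc (u ^ (i - j)), ← zpow_add u',
        add_neg_cancel, zpow_zero, mul_one, ← zpow_add]
      congr 1; ring] at hbb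
    have hdvd : (q : ℤ) ∣ 2 * i - j := by
      by_contra hnd
      exact huν (fix_of_pow (n := q) (h.exp u huP) ((Nat.prime_iff_prime_int.mp h.prime
        |>.coprime_iff_not_dvd.mpr hnd).symm) hbb)
    have hbm : b = m ^ i := by
      obtain ⟨c, hc⟩ := hdvd
      have hu'q : u' ^ ((q : ℤ) * c) = 1 := by rw [zpow_mul, zpow_natCast, h.exp _ hu'P, one_zpow]
      rw [hm, (Commute.pow_right (h.comm u huP u' hu'P) 2).mul_zpow, hbij, ← zpow_natCast u' 2,
        ← zpow_mul, show ((2 : ℕ) : ℤ) * i = j + (q : ℤ) * c by push_cast; linarith, zpow_add,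
        hu'q, mul_one]
    have hi : ¬ (q : ℤ) ∣ i := by
      rintro ⟨c, rfl⟩
      exact hb1 (by rw [hbm, zpow_mul, zpow_natCast, h.exp _ hmP, one_zpow])
    exact fix_of_pow (n := q) (h.exp m hmP)
      ((Nat.prime_iff_prime_int.mp h.prime |>.coprime_iff_not_dvd.mpr hi).symm) (hbm ▸ hbν)
  have hm1 : m ≠ 1 := by
    intro hh
    have e1 : u = (u' ^ 2)⁻¹ := eq_inv_of_mul_eq_one_left hh
    have e2 : u' = ((σ * u' * σ⁻¹) ^ 2)⁻¹ := by
      have hc : σ * u * σ⁻¹ = σ * (u' ^ 2)⁻¹ * σ⁻¹ := by rw [← e1]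
      rw [← hu'] at hc
      exact hc.trans (conj_inv_pow σ u' 2)
    have e3 := hprod u huP
    rw [← hu'] at e3
    have hss : σ * u' * σ⁻¹ = (u * u')⁻¹ := eq_inv_of_mul_eq_one_right e3
    rw [hss, inv_pow, inv_inv] at e2
    have hcu : Commute u u' := h.comm u huP u' hu'P
    rw [e1, show ((u' ^ 2)⁻¹ * u') = u'⁻¹ by group, inv_pow] at e2
    have e4 : u' ^ 3 = 1 := by
      rw [pow_succ']
      nth_rw 1 [e2]
      group
    have hu'1 : u' = 1 := by
      have : orderOf u' ∣ Nat.gcd 3 q :=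
        Nat.dvd_gcd (orderOf_dvd_of_pow_eq_one e4) (orderOf_dvd_of_pow_eq_one (h.exp _ hu'P))
      rw [(Nat.coprime_primes Nat.prime_three h.prime).mpr (by linarith [h.five]), Nat.dvd_one,
        orderOf_eq_one_iff] at this
      exact this
    exact huν (by rw [e1, hu'1]; simp)
  set m' := σ * m * σ⁻¹ with hm'
  set m'' := σ * m' * σ⁻¹ with hm''
  have hm'P : m' ∈ P := (h.inv m hmP).1
  have hm''P : m'' ∈ P := (h.inv _ hm'P).1
  have hmmm : m * m' * m'' = 1 := hprod m hmP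
  have htm : τ * m * τ⁻¹ = m⁻¹ := by
    rw [hm, conj_mul_sq, hut, htu'']
    have hcu : Commute u u' := h.comm u huP u' hu'P
    rw [(Commute.inv_inv hcu).mul_pow, mul_inv_rev, pow_two, pow_two]
    calc u * (u⁻¹ * u⁻¹ * (u'⁻¹ * u'⁻¹)) = u⁻¹ * (u' * u')⁻¹ := by group
      _ = (u' * u')⁻¹ * u⁻¹ := ((hcu.mul_right hcu).inv_inv).eq
      _ = _ := by rw [mul_inv_rev u, pow_two]
  set ξ := σ ν with hξ
  set θ := σ ξ with hθ
  have hsum : ν * ξ * θ = 1 := by
    have hσθ : σ θ = ν := by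
      rw [hθ, hξ, ← MulAut.mul_apply, ← MulAut.mul_apply, mul_assoc, d.s3', MulAut.one_apply]
    have htξ : τ ξ = θ := by
      rw [hθ, hξ, ← MulAut.mul_apply, d.t_s', MulAut.mul_apply, MulAut.mul_apply, hν]
    have htθ : τ θ = ξ := by rw [← htξ, ← MulAut.mul_apply, d.t_mul, MulAut.one_apply]
    refine hX _ ?_ ?_
    · rw [map_mul, map_mul, hσθ, ← hξ, ← hθ, mul_comm]
      exact (mul_assoc _ _ _).symm
    · rw [map_mul, map_mul, hν, htξ, htθ, mul_assoc, mul_comm θ, ← mul_assoc]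
  have hm'ξ : m' ξ = ξ := by
    rw [hm', hξ, MulAut.mul_apply, MulAut.mul_apply, ← MulAut.mul_apply _ σ⁻¹, inv_mul_cancel,
      MulAut.one_apply, hmν]
  have hm''θ : m'' θ = θ := by
    rw [hm'', hθ, MulAut.mul_apply, MulAut.mul_apply, ← MulAut.mul_apply _ σ⁻¹, inv_mul_cancel,
      MulAut.one_apply, hm'ξ]
  -- the stabilizer of the correction term
  set η := m' θ * θ⁻¹ with hη
  have hηinv : m' ν * ν⁻¹ = η⁻¹ := by
    have h1 := congrArg m' hsum
    rw [map_mul, map_mul, hm'ξ, map_one] at h1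
    rw [hη]
    have h2 : m' ν = (ξ * m' θ)⁻¹ := eq_inv_of_mul_eq_one_left (by rw [← mul_assoc]; exact h1)
    have h3 : ν = (ξ * θ)⁻¹ := eq_inv_of_mul_eq_one_left (by rw [← mul_assoc]; exact hsum)
    rw [h2, h3]
    apply Additive.ofMul.injective
    simp only [ofMul_mul, ofMul_inv]
    abel
  have hcm : ∀ a ∈ P, ∀ c ∈ P, ∀ x : X, a (c x) = c (a x) := fun a ha c hc x => by
    rw [← MulAut.mul_apply, h.comm a ha c hc, MulAut.mul_apply]
  have hmη : m η = η := by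
    have : m η⁻¹ = η⁻¹ := by
      rw [← hηinv, map_mul, map_inv, hcm m hmP m' hm'P, hmν]
    rwa [map_inv, inv_inj] at this
  have hm''η : m'' η = η := by rw [hη, map_mul, map_inv, hcm m'' hm''P m' hm'P, hm''θ]
  have hgen : ∀ {x : X}, m x = x → m'' x = x → m' x = x := by
    intro x h1 h2
    exact fix_mid (by rw [← mul_assoc, h.comm m' hm'P m hmP]; exact hmmm) h1 h2
  have hm'η := hgen hmη hm''η
  have hηone : η = 1 := by
    have hiter : ∀ i : ℕ, (m' ^ i) θ = θ * η ^ i := by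
      intro i
      induction i with
      | zero => simp
      | succ i ih =>
        rw [pow_succ', MulAut.mul_apply, ih, map_mul, map_pow, hm'η,
          show m' θ = θ * η by rw [hη, mul_comm, inv_mul_cancel_right], pow_succ', mul_assoc]
    have h1 := hiter q
    rw [h.exp _ hm'P, MulAut.one_apply, left_eq_mul] at h1
    have h2 := pow_gcd_eq_one.mpr ⟨hn η, h1⟩
    rwa [hnq.gcd_eq_one, pow_one] at h2
  have hm'θ : m' θ = θ := by rwa [hη, mul_inv_eq_one] at hηone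
  let St : Subgroup (MulAut X) :=
    { carrier := {a | a ∈ P ∧ a θ = θ}
      one_mem' := ⟨one_mem P, rfl⟩
      mul_mem' := fun {a c} ha hc => ⟨mul_mem ha.1 hc.1, by rw [MulAut.mul_apply, hc.2, ha.2]⟩
      inv_mem' := fun {a} ha => ⟨inv_mem ha.1, by
        conv_lhs => rw [← ha.2, ← MulAut.mul_apply, inv_mul_cancel, MulAut.one_apply]⟩ }
  have hmSt : m ∈ St := by
    have h1 : m = (m' * m'')⁻¹ := eq_inv_of_mul_eq_one_left (by rw [← mul_assoc]; exact hmmm)
    rw [h1]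
    exact inv_mem (mul_mem (show m' ∈ St from ⟨hm'P, hm'θ⟩) ⟨hm''P, hm''θ⟩)
  have hcl : closure {m, m'} = P := by
    refine (h.irred _ ((closure_le P).mpr (by
      rintro x (rfl | rfl)
      · exact hmP
      · exact hm'P)) ?_).resolve_left fun hbot => ?_
    · intro x hx
      have hmem1 : m ∈ closure ({m, m'} : Set (MulAut X)) := subset_closure (Or.inl rfl)
      have hmem2 : m' ∈ closure ({m, m'} : Set (MulAut X)) := subset_closure (Or.inr rfl)
      have hmem3 : m'' ∈ closure ({m, m'} : Set (MulAut X)) := by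
        rw [show m'' = (m * m')⁻¹ from eq_inv_of_mul_eq_one_right hmmm]
        exact inv_mem (mul_mem hmem1 hmem2)
      have htm' : τ * m' * τ⁻¹ = m''⁻¹ := by
        have hl : τ * σ = σ * σ * τ := by rw [d.t_s', mul_assoc]
        calc τ * m' * τ⁻¹ = (τ * σ) * m * (τ * σ)⁻¹ := by rw [hm']; simp [mul_assoc]
          _ = σ * σ * (τ * m * τ⁻¹) * (σ * σ)⁻¹ := by rw [hl]; simp [mul_assoc]
          _ = _ := by rw [htm, hm'', hm']; simp [mul_assoc]
      induction hx using closure_induction with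
      | mem y hy =>
        rcases hy with rfl | rfl
        · exact ⟨hmem2, htm ▸ inv_mem hmem1⟩
        · exact ⟨hmem3, htm' ▸ inv_mem hmem3⟩
      | one => simp
      | mul a c _ _ ha hc =>
        exact ⟨by rw [show σ * (a * c) * σ⁻¹ = σ * a * σ⁻¹ * (σ * c * σ⁻¹) by group]
                  exact mul_mem ha.1 hc.1,
          by rw [show τ * (a * c) * τ⁻¹ = τ * a * τ⁻¹ * (τ * c * τ⁻¹) by group]
             exact mul_mem ha.2 hc.2⟩
      | inv a _ ha =>
        exact ⟨by rw [show σ * a⁻¹ * σ⁻¹ = (σ * a * σ⁻¹)⁻¹ by group]; exact inv_mem ha.1,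
          by rw [show τ * a⁻¹ * τ⁻¹ = (τ * a * τ⁻¹)⁻¹ by group]; exact inv_mem ha.2⟩
    · have : m ∈ (⊥ : Subgroup (MulAut X)) := hbot ▸ subset_closure (Or.inl rfl)
      exact hm1 (mem_bot.mp this)
  have hall : ∀ a ∈ P, a θ = θ := fun a ha => by
    have h1 : closure {m, m'} ≤ St := (closure_le St).mpr (by
      rintro x (rfl | rfl)
      · exact hmSt
      · exact ⟨hm'P, hm'θ⟩)
    exact (h1 (hcl.ge ha)).2
  refine hkν ?_
  have h1 := hall _ (h.inv _ (h.inv k hk).1).1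
  rw [hθ, hξ] at h1
  simp only [MulAut.mul_apply] at h1
  rw [← MulAut.mul_apply _ σ⁻¹ σ, inv_mul_cancel, MulAut.one_apply, ← MulAut.mul_apply _ σ⁻¹ σ,
    inv_mul_cancel, MulAut.one_apply] at h1
  exact σ.injective (σ.injective h1)

/-- A point moved by `a` has two of its first four translates fixed by the same reflection. -/
theorem exists_two_of_three (x : Fin 3 → MulAut X) (a : MulAut X) (ν : X)
    (h : ∀ i : ℕ, i < 4 → ∃ j, x j ((a ^ i) ν) = (a ^ i) ν) :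
    ∃ (j : Fin 3) (i d : ℕ), 0 < d ∧ d < 4 ∧ x j ((a ^ i) ν) = (a ^ i) ν ∧
      x j ((a ^ d) ((a ^ i) ν)) = (a ^ d) ((a ^ i) ν) := by
  choose f hf using fun i : Fin 4 => h i i.2
  obtain ⟨i, k, hik, hfik⟩ := Fintype.exists_ne_map_eq_of_card_lt f (by simp)
  wlog hlt : i < k generalizing i k
  · exact this k i hik.symm hfik.symm (lt_of_le_of_ne (not_lt.mp hlt) hik.symm)
  have hlt' : (i : ℕ) < k := hlt
  refine ⟨f i, i, (k : ℕ) - i, by omega, by omega, hf i, ?_⟩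
  rw [← MulAut.mul_apply X (a ^ _) (a ^ _), ← pow_add, Nat.sub_add_cancel hlt'.le, hfik]
  exact hf k

theorem Irred.coprime_small (h : Irred σ τ P q) {d : ℕ} (hd : 0 < d) (hd' : d < 9)
    (hd3 : d ≠ 5 ∧ d ≠ 7) : d.Coprime q := by
  refine (h.prime.coprime_iff_not_dvd.mpr fun hh => ?_).symm
  have hle := Nat.le_of_dvd hd hh
  have h5 := h.five
  have hp := h.prime
  have hq9 : q < 9 := by omega
  interval_cases q <;> interval_cases d <;> first | omega | simp_all (config := {decide := true})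

theorem Irred.fix_of_pow' (h : Irred σ τ P q) {a : MulAut X} (ha : a ∈ P) {x : X} {d : ℕ}
    (hd : d.Coprime q) (hx : (a ^ d) x = x) : a x = x :=
  fix_of_pow (n := q) (e := d) (h.exp a ha) hd.isCoprime (by rwa [zpow_natCast])

/-- Elements of `P` commute, also as functions. -/
theorem Irred.apply_comm (h : Irred σ τ P q) {a b : MulAut X} (ha : a ∈ P) (hb : b ∈ P) (x : X) :
    a (b x) = b (a x) := by
  rw [← MulAut.mul_apply, h.comm a ha b hb, MulAut.mul_apply]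

theorem Irred.fix_translate (h : Irred σ τ P q) {a b : MulAut X} (ha : a ∈ P) (hb : b ∈ P) {x : X}
    (hx : a (b x) = b x) : a x = x := by
  rw [h.apply_comm ha hb] at hx
  exact b.injective hx

/-- The three reflections satisfy the same hypotheses. -/
theorem reflections (d : Datum σ τ) (hX : ∀ x, σ x = x → τ x = x → x = 1) (h : Irred σ τ P q)
    (j : Fin 3) :
    Datum σ (![τ, τ * σ, τ * σ * σ] j) ∧ Irred σ (![τ, τ * σ, τ * σ * σ] j) P q ∧
      ∀ y, σ y = y → ![τ, τ * σ, τ * σ * σ] j y = y → y = 1 := by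
  match j with
  | 0 => exact ⟨d, h, hX⟩
  | 1 => exact ⟨d.rot, Irred.rot d h, fun y hy hy' => hX y hy (by
      rwa [show (![τ, τ * σ, τ * σ * σ] (1 : Fin 3)) = τ * σ from rfl, MulAut.mul_apply, hy] at hy')⟩
  | 2 => exact ⟨d.rot.rot, Irred.rot d.rot (Irred.rot d h), fun y hy hy' => hX y hy (by
      rwa [show (![τ, τ * σ, τ * σ * σ] (2 : Fin 3)) = τ * σ * σ from rfl, MulAut.mul_apply,
        MulAut.mul_apply, hy, hy] at hy')⟩

/-- An irreducible group fixes all characters that are fixed by elements of the symmetric group. -/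
theorem no_weight (d : Datum σ τ) (hX : ∀ x, σ x = x → τ x = x → x = 1) {n : ℕ}
    (hn : ∀ x : X, x ^ n = 1) (hnq : n.Coprime q) (hn2 : Odd n) (h : Irred σ τ P q)
    (Λ : Set X) (hΛ : ∀ a ∈ P, ∀ ν ∈ Λ, a ν ∈ Λ)
    (hfix : ∀ ν ∈ Λ, σ ν = ν ∨ τ ν = ν ∨ (τ * σ) ν = ν ∨ (τ * σ * σ) ν = ν) :
    ∀ a ∈ P, ∀ ν ∈ Λ, a ν = ν := by
  intro a ha ν hν
  by_contra hmove
  set x : Fin 3 → MulAut X := ![τ, τ * σ, τ * σ * σ] with hx
  have hC : (∀ k ∈ P, σ * k * σ⁻¹ = k) ∨ ∀ k ∈ P, σ * k * σ⁻¹ = k → k = 1 := by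
    let C : Subgroup (MulAut X) :=
      { carrier := {k | k ∈ P ∧ σ * k * σ⁻¹ = k}
        one_mem' := ⟨one_mem P, by simp⟩
        mul_mem' := fun {k l} hk hl => ⟨mul_mem hk.1 hl.1, by
          rw [show σ * (k * l) * σ⁻¹ = σ * k * σ⁻¹ * (σ * l * σ⁻¹) by group, hk.2, hl.2]⟩
        inv_mem' := fun {k} hk => ⟨inv_mem hk.1, by
          rw [show σ * k⁻¹ * σ⁻¹ = (σ * k * σ⁻¹)⁻¹ by group, hk.2]⟩ }
    have hCinv : Inv σ τ C := fun k hk => by
      refine ⟨⟨(h.inv k hk.1).1, by rw [hk.2, hk.2]⟩, (h.inv k hk.1).2, ?_⟩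
      have h1 : σ⁻¹ * k * σ = k := by
        conv_lhs => rw [← hk.2]
        group
      have hl : σ * τ = τ * σ⁻¹ := by rw [← d.t_s_t, ← mul_assoc, ← mul_assoc, d.t_mul, one_mul]
      calc σ * (τ * k * τ⁻¹) * σ⁻¹ = (σ * τ) * k * (σ * τ)⁻¹ := by group
        _ = τ * (σ⁻¹ * k * σ) * τ⁻¹ := by rw [hl]; group
        _ = _ := by rw [h1]
    rcases h.irred C (fun k hk => hk.1) hCinv with hbot | htop
    · exact Or.inr fun k hk hk' => mem_bot.mp (hbot.le ⟨hk, hk'⟩)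
    · exact Or.inl fun k hk => (htop.ge hk).2
  -- no point of the orbit is fixed by `σ`
  have hnos : ∀ k ∈ P, σ (k ν) ≠ k ν := by
    intro k hk hσy
    set y := k ν with hy
    have hay : a y ≠ y := fun hh => hmove (h.fix_translate ha hk hh)
    rcases hC with hall | hnone
    · exact hay (fix_of_sigma d hX h hσy ha (hall a ha))
    have hσinv : ∀ z : X, σ z = z → σ⁻¹ z = z := fun z hz => by
      conv_lhs => rw [← hz, ← MulAut.mul_apply, inv_mul_cancel, MulAut.one_apply]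
    have hty : ∀ j, x j y = y⁻¹ := fun j => by
      obtain ⟨dj, hj, hXj⟩ := reflections d hX h j
      refine eq_inv_of_mul_eq_one_left (hXj _ ?_ ?_)
      · have hl : σ * x j = x j * σ⁻¹ := by
          rw [← dj.t_s_t, ← mul_assoc, ← mul_assoc, dj.t_mul, one_mul]
        rw [map_mul, ← MulAut.mul_apply X σ (x j), hl, MulAut.mul_apply, hσinv y hσy, hσy]
      · rw [map_mul, ← MulAut.mul_apply, dj.t_mul, MulAut.one_apply, mul_comm]
    let B : Subgroup (MulAut X) :=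
      { carrier := {b | b ∈ P ∧ b y = y}
        one_mem' := ⟨one_mem P, rfl⟩
        mul_mem' := fun {b c} hb hc => ⟨mul_mem hb.1 hc.1, by rw [MulAut.mul_apply, hc.2, hb.2]⟩
        inv_mem' := fun {b} hb => ⟨inv_mem hb.1, by
          conv_lhs => rw [← hb.2, ← MulAut.mul_apply, inv_mul_cancel, MulAut.one_apply]⟩ }
    have hBinv : Inv σ τ B := fun b hb => by
      refine ⟨⟨(h.inv b hb.1).1, ?_⟩, (h.inv b hb.1).2, ?_⟩
      · rw [MulAut.mul_apply, MulAut.mul_apply, hσinv y hσy, hb.2, hσy]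
      · have h0 : τ y = y⁻¹ := hty 0
        have h1 : τ (y⁻¹) = y := by rw [map_inv, h0, inv_inv]
        rw [d.t_inv, MulAut.mul_apply, MulAut.mul_apply, h0, map_inv, hb.2, h1]
    rcases h.irred B (fun b hb => hb.1) hBinv with hB | hB
    swap
    · exact hay (hB.ge ha).2
    have hBone : ∀ b ∈ P, b y = y → b = 1 := fun b hb hb' => mem_bot.mp (hB.le ⟨hb, hb'⟩)
    rcases hfix _ (hΛ a ha y (hΛ k hk ν hν)) with hs | hrest
    · -- two fixed points of `σ`
      have h1 : a⁻¹ * (σ * a * σ⁻¹) = 1 := by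
        refine hBone _ (mul_mem (inv_mem ha) (h.inv a ha).1) ?_
        rw [MulAut.mul_apply, MulAut.mul_apply, MulAut.mul_apply, hσinv y hσy, hs,
          ← MulAut.mul_apply, inv_mul_cancel, MulAut.one_apply]
      exact hay (by rw [hnone a ha (inv_mul_eq_one.mp h1).symm]; rfl)
    · have hex : ∃ j, x j (a y) = a y := by
        rcases hrest with h1 | h1 | h1
        exacts [⟨0, h1⟩, ⟨1, h1⟩, ⟨2, h1⟩]
      obtain ⟨j, hj⟩ := hex
      obtain ⟨dj, hIj, hXj⟩ := reflections d hX h j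
      set c := a⁻¹ * (x j * a * (x j)⁻¹) with hc
      have hcP : c ∈ P := mul_mem (inv_mem ha) (hIj.inv a ha).2
      have hcy : c y⁻¹ = y := by
        have hcancel : ∀ (g : MulAut X) (z : X), g⁻¹ (g z) = z := fun g z => by
          rw [← MulAut.mul_apply, inv_mul_cancel, MulAut.one_apply]
        calc c y⁻¹ = a⁻¹ (x j (a ((x j)⁻¹ (x j y)))) := by rw [hty j, hc]; rfl
          _ = y := by rw [hcancel, hj, hcancel]
      have hcy' : c y = y⁻¹ := by rw [← inv_inv y, map_inv, inv_inv, hcy]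
      have hc2 : (c ^ 2) y = y := by rw [pow_two, MulAut.mul_apply, hcy', hcy]
      have hc1 : c = 1 := hBone _ hcP
        (h.fix_of_pow' hcP (h.coprime_small (by norm_num) (by norm_num) (by norm_num)) hc2)
      rw [hc1, MulAut.one_apply] at hcy
      have hy1 : y = 1 := by
        have e2 : y ^ 2 = 1 := by rw [pow_two]; nth_rw 2 [← hcy]; exact mul_inv_cancel y
        have := pow_gcd_eq_one.mpr ⟨hn y, e2⟩
        rwa [(Nat.coprime_two_right.mpr hn2).gcd_eq_one, pow_one] at this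
      exact hay (by rw [hy1, map_one])
  have hrefl : ∀ k ∈ P, ∃ j, x j (k ν) = k ν := fun k hk => by
    rcases hfix _ (hΛ k hk ν hν) with h1 | h1 | h1 | h1
    exacts [absurd h1 (hnos k hk), ⟨0, h1⟩, ⟨1, h1⟩, ⟨2, h1⟩]
  obtain ⟨j, i₀, e, he0, he4, hy, hey⟩ :=
    exists_two_of_three x a ν fun i _ => hrefl _ (pow_mem ha i)
  set y := (a ^ i₀) ν with hydef
  have haeP : a ^ e ∈ P := pow_mem ha e
  have hay : (a ^ e) y ≠ y := fun hh =>
    hmove (h.fix_of_pow' ha (h.coprime_small he0 (by omega) (by omega))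
      (h.fix_translate haeP (pow_mem ha i₀) hh))
  obtain ⟨dj, hIj, hXj⟩ := reflections d hX h j
  set ρ := x j with hρ
  have hk : (ρ * a ^ e * ρ⁻¹) y = (a ^ e) y := by
    rw [dj.t_inv, MulAut.mul_apply, MulAut.mul_apply, hy, hey]
  rcases hC with hall | hnone
  · -- `ρ` inverts `P`
    have hinv : ρ * a ^ e * ρ⁻¹ = (a ^ e)⁻¹ := by
      have hconj : σ * (ρ * a ^ e * ρ⁻¹) * σ⁻¹ = ρ * a ^ e * ρ⁻¹ := hall _ (hIj.inv _ haeP).2
      refine eq_inv_of_mul_eq_one_right (hIj.free _ (mul_mem haeP (hIj.inv _ haeP).2) ?_ ?_)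
      · rw [show σ * (a ^ e * (ρ * a ^ e * ρ⁻¹)) * σ⁻¹
          = (σ * a ^ e * σ⁻¹) * (σ * (ρ * a ^ e * ρ⁻¹) * σ⁻¹) by group, hall _ haeP, hconj]
      · rw [show ρ * (a ^ e * (ρ * a ^ e * ρ⁻¹)) * ρ⁻¹
          = (ρ * a ^ e * ρ⁻¹) * ((ρ * ρ) * a ^ e * (ρ * ρ)⁻¹) by group, dj.t_mul, one_mul, inv_one,
          mul_one]
        exact h.comm _ (hIj.inv _ haeP).2 _ haeP
    rw [hinv] at hk
    have h2 : ((a ^ e) ^ 2) y = y := by
      rw [pow_two, MulAut.mul_apply, ← hk, ← MulAut.mul_apply, mul_inv_cancel, MulAut.one_apply]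
    exact hay (h.fix_of_pow' haeP (h.coprime_small (by norm_num) (by norm_num) (by norm_num)) h2)
  by_cases hB : ∃ b ∈ P, b ≠ 1 ∧ b y = y
  · obtain ⟨b, hb, hb1, hby⟩ := hB
    exact reflection_case dj hXj hn hnq hIj hnone hy haeP hay hk hb hb1 hby
  push Not at hB
  have hfree : ∀ b ∈ P, b y = y → b = 1 := fun b hb hb' => by
    by_contra hh
    exact hB b hb hh hb'
  have hcomm_of : ∀ (g : MulAut X), g ∈ P → ∀ (l : Fin 3) (z : MulAut X), z ∈ P →
      x l (z y) = z y → x l (g (z y)) = g (z y) → x l * g * (x l)⁻¹ = g := by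
    intro g hg l z hz h1 h2
    obtain ⟨dl, hIl, -⟩ := reflections d hX h l
    have h3 : (x l * g * (x l)⁻¹) (z y) = g (z y) := by
      rw [dl.t_inv, MulAut.mul_apply, MulAut.mul_apply, h1, h2]
    have h4 : g⁻¹ * (x l * g * (x l)⁻¹) = 1 := by
      refine hfree _ (mul_mem (inv_mem hg) (hIl.inv g hg).2) ?_
      refine h.fix_translate (mul_mem (inv_mem hg) (hIl.inv g hg).2) hz ?_
      rw [MulAut.mul_apply, h3, ← MulAut.mul_apply, inv_mul_cancel, MulAut.one_apply]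
    exact (inv_mul_eq_one.mp h4).symm
  -- an element centralized by the involution, and one centralized by no reflection
  set u := a ^ e with hu
  have hut : ρ * u * ρ⁻¹ = u :=
    hcomm_of u haeP j 1 (one_mem P) (by simpa using hy) (by simpa using hey)
  set u' := σ * u * σ⁻¹ with hu'
  set u'' := σ * u' * σ⁻¹ with hu''
  have hu'P : u' ∈ P := (h.inv u haeP).1
  have hu''P : u'' ∈ P := (h.inv _ hu'P).1
  have huu : u * u' * u'' = 1 := by
    refine hnone _ (mul_mem (mul_mem haeP hu'P) hu''P) ?_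
    have e0 : σ * u'' * σ⁻¹ = u := by
      calc σ * u'' * σ⁻¹ = σ ^ 3 * u * (σ ^ 3)⁻¹ := by
            rw [hu'', hu']; simp [pow_succ, mul_assoc]
        _ = u := by rw [d.s_pow]; simp
    rw [show σ * (u * u' * u'') * σ⁻¹ = (σ * u * σ⁻¹) * (σ * u' * σ⁻¹) * (σ * u'' * σ⁻¹) by group,
      ← hu', ← hu'', e0, mul_assoc u]
    exact h.comm _ (mul_mem hu'P hu''P) _ haeP
  have hl : ρ * σ = σ * σ * ρ := dj.t_s'.trans (mul_assoc σ σ ρ).symm
  have hu'ρ : ρ * u' * ρ⁻¹ = u'' := by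
    calc ρ * u' * ρ⁻¹ = (ρ * σ) * u * (ρ * σ)⁻¹ := by rw [hu']; simp [mul_assoc]
      _ = σ * σ * (ρ * u * ρ⁻¹) * (σ * σ)⁻¹ := by rw [hl]; simp [mul_assoc]
      _ = _ := by rw [hut, hu'', hu']; simp [mul_assoc]
  set m := u * u' ^ 2 with hm
  have hmP : m ∈ P := mul_mem haeP (pow_mem hu'P 2)
  have hu1 : u ≠ 1 := fun hh => hay (by rw [hh]; rfl)
  have hu9 : ∀ k : ℕ, k.Coprime q → u ^ k = 1 → False := fun k hk' hh => hu1 (by
    have := pow_gcd_eq_one.mpr ⟨h.exp u haeP, hh⟩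
    rwa [Nat.Coprime.gcd_eq_one hk'.symm, pow_one] at this)
  have hu2'' : u'' = (u * u')⁻¹ := eq_inv_of_mul_eq_one_right huu
  have hcu : Commute u u' := h.comm u haeP u' hu'P
  have hnotρ : ρ * m * ρ⁻¹ ≠ m := by
    intro hh
    rw [hm, conj_mul_sq, hut, hu'ρ] at hh
    have e1 : u'' ^ 2 = u' ^ 2 := mul_left_cancel hh
    have e2 : u'' = u' := by
      have e3 : (u''⁻¹ * u') ^ 2 = 1 := by
        rw [(Commute.inv_left (h.comm u'' hu''P u' hu'P)).mul_pow, inv_pow, e1, inv_mul_cancel]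
      have e4 := pow_gcd_eq_one.mpr ⟨h.exp _ (mul_mem (inv_mem hu''P) hu'P), e3⟩
      rw [Nat.Coprime.gcd_eq_one (h.coprime_small (d := 2) (by norm_num) (by norm_num)
        (by norm_num)).symm, pow_one] at e4
      exact inv_mul_eq_one.mp e4
    have e5 : σ * u' * σ⁻¹ = u' := by rw [← hu'', e2]
    exact hu1 (hnone u haeP (by
      rw [← hu']
      have e6 := hnone u' hu'P e5
      have e7 : σ * u * σ⁻¹ = 1 := by rw [← hu']; exact e6
      rw [e6]
      exact (conj_eq_one_iff.mp e7).symm))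
  have hnotρσ : (ρ * σ) * m * (ρ * σ)⁻¹ ≠ m := by
    intro hh
    rw [show (ρ * σ) * m * (ρ * σ)⁻¹ = ρ * (σ * m * σ⁻¹) * ρ⁻¹ by group, hm, conj_mul_sq,
      ← hu', ← hu'', conj_mul_sq, hu'ρ] at hh
    have e0 : ρ * u'' * ρ⁻¹ = u' := by
      rw [← hu'ρ]
      calc ρ * (ρ * u' * ρ⁻¹) * ρ⁻¹ = (ρ * ρ) * u' * (ρ * ρ)⁻¹ := by simp [mul_assoc]
        _ = u' := by rw [dj.t_mul]; simp
    rw [e0] at hh
    have e1 : u'' = u := mul_right_cancel hh
    have e2 : σ * u'' * σ⁻¹ = σ * u * σ⁻¹ := by rw [e1]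
    have e3 : σ * u'' * σ⁻¹ = u := by
      calc σ * u'' * σ⁻¹ = σ ^ 3 * u * (σ ^ 3)⁻¹ := by rw [hu'', hu']; simp [pow_succ, mul_assoc]
        _ = u := by rw [d.s_pow]; simp
    exact hu1 (hnone u haeP (e2.symm.trans e3))
  have hnotρσσ : (ρ * σ * σ) * m * (ρ * σ * σ)⁻¹ ≠ m := by
    intro hh
    have e3 : σ * u'' * σ⁻¹ = u := by
      calc σ * u'' * σ⁻¹ = σ ^ 3 * u * (σ ^ 3)⁻¹ := by rw [hu'', hu']; simp [pow_succ, mul_assoc]
        _ = u := by rw [d.s_pow]; simp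
    rw [show (ρ * σ * σ) * m * (ρ * σ * σ)⁻¹ = ρ * (σ * (σ * m * σ⁻¹) * σ⁻¹) * ρ⁻¹ by group, hm,
      conj_mul_sq, ← hu', ← hu'', conj_mul_sq, ← hu'', e3, conj_mul_sq, hut] at hh
    have e0 : ρ * u'' * ρ⁻¹ = u' := by
      rw [← hu'ρ]
      calc ρ * (ρ * u' * ρ⁻¹) * ρ⁻¹ = (ρ * ρ) * u' * (ρ * ρ)⁻¹ := by simp [mul_assoc]
        _ = u' := by rw [dj.t_mul]; simp
    rw [e0] at hh
    -- `u' * u ^ 2 = u * u' ^ 2`
    have e4 : u * (u * u') = u * (u' * u') := by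
      calc u * (u * u') = u' * u ^ 2 := by rw [← mul_assoc, ← pow_two, (hcu.pow_left 2).eq]
        _ = u * u' ^ 2 := hh
        _ = _ := by rw [pow_two]
    exact hu1 (hnone u haeP (mul_right_cancel (mul_left_cancel e4)).symm)
  have hnot : ∀ l : Fin 3, x l * m * (x l)⁻¹ ≠ m := by
    intro l
    have key : x l = ρ ∨ x l = ρ * σ ∨ x l = ρ * σ * σ := by
      rw [hρ, hx]
      fin_cases l <;> fin_cases j <;>
        simp [mul_assoc, d.s3']
    rcases key with e' | e' | e' <;> rw [e'] <;> assumption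
  obtain ⟨l, i', e', he'0, he'4, hz, hez⟩ := exists_two_of_three x m y fun i _ => by
    obtain ⟨l, hl'⟩ := hrefl (m ^ i * a ^ i₀) (mul_mem (pow_mem hmP i) (pow_mem ha _))
    exact ⟨l, by rwa [MulAut.mul_apply] at hl'⟩
  have hme := hcomm_of (m ^ e') (pow_mem hmP e') l (m ^ i') (pow_mem hmP i') hz hez
  refine hnot l ?_
  have h1 : (x l * m * (x l)⁻¹ * m⁻¹) ^ e' = 1 := by
    rw [(Commute.inv_right (h.comm _ ((reflections d hX h l).2.1.inv m hmP).2 m hmP)).mul_pow,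
      conj_pow, inv_pow, hme, mul_inv_cancel]
  have h2 := pow_gcd_eq_one.mpr
    ⟨h.exp _ (mul_mem ((reflections d hX h l).2.1.inv m hmP).2 (inv_mem hmP)), h1⟩
  rw [Nat.Coprime.gcd_eq_one (h.coprime_small he'0 (by omega) (by omega)).symm, pow_one] at h2
  exact mul_inv_eq_one.mp h2

end Cfsg.Lib.SymThree
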