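import Cfsg.Agent.Lib.SymThree.Nilpotent
import Cfsg.Agent.Lib.SymThree.Dual
import Cfsg.Agent.Lib.Core.Fitting

/-!
# Solvable groups of operators with free action of the symmetric group of degree three
-/

set_option autoImplicit false

namespace Cfsg.Lib.SymThree

open Subgroup Module
open scoped commutatorElement

variable {Γ : Type*} [Group Γ] {K : Type*} [Field K] [IsAlgClosed K] {W : Type*} [AddCommGroup W]
  [Module K W] [FiniteDimensional K W] {ρ : Γ →* Module.End K W} {s t : Γ}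

/-- The elements conjugating `R` into itself in both directions. -/
def normSub (R : Subgroup Γ) : Subgroup Γ where
  carrier := {x | (∀ r ∈ R, x * r * x⁻¹ ∈ R) ∧ ∀ r ∈ R, x⁻¹ * r * (x⁻¹)⁻¹ ∈ R}
  one_mem' := ⟨fun r hr => by simpa using hr, fun r hr => by simpa using hr⟩
  mul_mem' := fun {a b} ha hb => ⟨fun r hr => by
      have := ha.1 _ (hb.1 r hr); simpa [mul_assoc] using this, fun r hr => by
      have := hb.2 _ (ha.2 r hr); simpa [mul_assoc] using this⟩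
  inv_mem' := fun {a} ha => ⟨ha.2, by simpa using ha.1⟩

/-- The action of the normalizing elements on characters. -/
def charAct (R : Subgroup Γ) (K : Type*) [Field K] : normSub R →* MulAut (R →* Kˣ) where
  toFun x :=
    { toFun := fun μ => μ.comp (cj R (x : Γ)⁻¹ x.2.2)
      invFun := fun μ => μ.comp (cj R (x : Γ) x.2.1)
      left_inv := fun μ => MonoidHom.ext fun r => congrArg μ (Subtype.ext (by
        show (x : Γ)⁻¹ * ((x : Γ) * r * (x : Γ)⁻¹) * ((x : Γ)⁻¹)⁻¹ = r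
        group))
      right_inv := fun μ => MonoidHom.ext fun r => congrArg μ (Subtype.ext (by
        show (x : Γ) * ((x : Γ)⁻¹ * r * ((x : Γ)⁻¹)⁻¹) * (x : Γ)⁻¹ = r
        group))
      map_mul' := fun μ ν => rfl }
  map_one' := MulEquiv.ext fun μ => MonoidHom.ext fun r => congrArg μ (Subtype.ext (by
    show (1 : Γ)⁻¹ * r * ((1 : Γ)⁻¹)⁻¹ = r
    simp))
  map_mul' x y := MulEquiv.ext fun μ => MonoidHom.ext fun r => congrArg μ (Subtype.ext (by
    show ((x : Γ) * y)⁻¹ * r * (((x : Γ) * y)⁻¹)⁻¹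
      = (y : Γ)⁻¹ * ((x : Γ)⁻¹ * r * ((x : Γ)⁻¹)⁻¹) * ((y : Γ)⁻¹)⁻¹
    group))

theorem charAct_fix_iff {R : Subgroup Γ} (x : normSub R) (μ : R →* Kˣ) :
    charAct R K x μ = μ ↔ Fixes R μ x :=
  comp_cj_eq_iff μ (x : Γ) x.2.2

/-- An invariant subgroup of `H` whose conjugation automorphisms preserve characteristic subgroups. -/
theorem map_subtype_inv {H : Subgroup Γ} [Finite H] (hI : Inv s t H) (C : Subgroup H)
    [hC : C.Characteristic] : Inv s t (C.map H.subtype) := by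
  have key : ∀ x, (hx : ∀ y ∈ H, x * y * x⁻¹ ∈ H) → ∀ y ∈ C.map H.subtype,
      x * y * x⁻¹ ∈ C.map H.subtype := by
    rintro x hx _ ⟨y, hy, rfl⟩
    let e : H ≃* H := MulEquiv.ofBijective (cj H x hx) (Finite.injective_iff_bijective.mp
      fun a b hab => Subtype.ext (mul_left_cancel (mul_right_cancel (congrArg Subtype.val hab))))
    refine ⟨e y, ?_, rfl⟩
    exact (characteristic_iff_map_eq.mp hC e).le (mem_map_of_mem _ hy)
  exact fun y hy => ⟨key s (fun z hz => (hI z hz).1) y hy, key t (fun z hz => (hI z hz).2) y hy⟩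

/-- A solvable subgroup equal to its derived subgroup is trivial. -/
theorem eq_bot_of_commutator_eq {G : Type*} [Group G] [hG : Group.IsSolvable G] {N : Subgroup G}
    (h : N ≤ ⁅N, N⁆) : N = ⊥ := by
  obtain ⟨n, hn⟩ := (Group.isSolvable_def G).mp hG
  have h1 : ∀ k, N ≤ derivedSeries G k := fun k => by
    induction k with
    | zero => exact le_top
    | succ k ih => exact h.trans (commutator_mono ih ih)
  exact le_bot_iff.mp (hn ▸ h1 n)

/-- Abelian normal part: irreducible sections act trivially. -/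
theorem centralizes_coprime_part (hA : Action ρ s t) (hρ : Function.Injective ρ) {R J : Subgroup Γ}
    [Finite R] [Finite J] {u : ℕ} (hu : u.Prime) (hu5 : 5 ≤ u) (hIR : Inv s t R) (hFR : Free s t R)
    (hcopR : (Nat.card R).Coprime 6) (hcardR : (Nat.card R : K) ≠ 0)
    (hRu : (Nat.card R).Coprime u) (hRab : ∀ a ∈ R, ∀ b ∈ R, a * b = b * a) (hIJ : Inv s t J)
    (hFJ : Free s t J) (hcopJ : (Nat.card J).Coprime 6)
    (hJR : ∀ j ∈ J, ∀ r ∈ R, j * r * j⁻¹ ∈ R)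
    (hexp : ∀ j ∈ J, ∀ r ∈ R, j ^ u * r = r * j ^ u)
    (hcomm : ∀ a ∈ J, ∀ b ∈ J, ∀ r ∈ R, ⁅a, b⁆ * r = r * ⁅a, b⁆) :
    ∀ j ∈ J, ∀ r ∈ R, j * r = r * j := by
  classical
  have d := hA.datum
  have hsN : s ∈ normSub R := by
    refine ⟨fun r hr => (hIR r hr).1, fun r hr => ?_⟩
    rw [inv_inv, d.s_inv]
    have := (hIR _ (hIR r hr).1).1
    simpa [mul_assoc, d.s_inv, d.s3, d.s3'] using this
  have htN : t ∈ normSub R := by
    refine ⟨fun r hr => (hIR r hr).2, fun r hr => ?_⟩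
    rw [d.t_inv]; exact (hIR r hr).2
  have hJN : J ≤ normSub R := fun j hj =>
    ⟨fun r hr => hJR j hj r hr, fun r hr => hJR j⁻¹ (inv_mem hj) r hr⟩
  set Φ := charAct R K with hΦ
  set σ := Φ ⟨s, hsN⟩ with hσ
  set τ := Φ ⟨t, htN⟩ with hτ
  have hd : Datum σ τ := by
    refine ⟨?_, ?_, ?_⟩
    · rw [hσ, ← map_pow, show (⟨s, hsN⟩ : normSub R) ^ 3 = 1 from Subtype.ext d.s_pow, map_one]
    · rw [hτ, ← map_mul, show (⟨t, htN⟩ : normSub R) * ⟨t, htN⟩ = 1 from Subtype.ext d.t_mul,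
        map_one]
    · rw [hσ, hτ, ← map_mul, ← map_mul,
        show (⟨t, htN⟩ : normSub R) * ⟨s, hsN⟩ * ⟨t, htN⟩ = ⟨s, hsN⟩⁻¹ from Subtype.ext d.t_s_t,
        map_inv]
  -- the weights
  let Λ : Set (R →* Kˣ) := {μ | ∃ w : W, w ≠ 0 ∧ IsWeight (ρ.comp R.subtype) μ w}
  have hfaith : ∀ x : normSub R, (∀ μ ∈ Λ, Φ x μ = μ) → ∀ r ∈ R, (x : Γ) * r = r * x := by
    intro x hx r hr
    have hr' : (x : Γ)⁻¹ * r * ((x : Γ)⁻¹)⁻¹ ∈ R := x.2.2 r hr
    set z : R := cj R (x : Γ)⁻¹ x.2.2 ⟨r, hr⟩ * ⟨r, hr⟩⁻¹ with hz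
    have hz1 : z = 1 := by
      by_contra hne
      obtain ⟨v, hv⟩ : ∃ v, ρ z v ≠ v := by
        by_contra h
        push Not at h
        exact hne (Subtype.ext (hρ ((LinearMap.ext h).trans (map_one ρ).symm)))
      obtain ⟨μ, w, -, hw0, hw, hμz⟩ := exists_weight_ne_one hcardR (ρ.comp R.subtype)
        (fun a b => by
          show ρ (a : Γ) * ρ (b : Γ) = ρ (b : Γ) * ρ (a : Γ)
          rw [← map_mul, ← map_mul, hRab a a.2 b b.2])
        ⊤ (fun _ _ _ => trivial) (z := z) (u := v) trivial hv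
      apply hμz
      have h1 : μ (cj R (x : Γ)⁻¹ x.2.2 ⟨r, hr⟩) = μ ⟨r, hr⟩ :=
        DFunLike.congr_fun (hx μ ⟨w, hw0, hw⟩) ⟨r, hr⟩
      rw [hz, map_mul, map_inv, h1, mul_inv_cancel]
    rw [hz, mul_inv_eq_one] at hz1
    have h2 : (x : Γ)⁻¹ * r * ((x : Γ)⁻¹)⁻¹ = r := congrArg Subtype.val hz1
    rw [inv_inv] at h2
    conv_lhs => rw [← h2]
    group
  have hker : ∀ x : normSub R, (∀ r ∈ R, (x : Γ) * r = r * x) → Φ x = 1 := fun x hx =>
    MulEquiv.ext fun μ => MonoidHom.ext fun r => congrArg μ (Subtype.ext (by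
      show (x : Γ)⁻¹ * r * ((x : Γ)⁻¹)⁻¹ = r
      rw [inv_inv, mul_assoc, ← hx r r.2, inv_mul_cancel_left]))
  set P : Subgroup (MulAut (R →* Kˣ)) := (J.subgroupOf (normSub R)).map Φ with hP
  have hPmem : ∀ a ∈ P, ∃ j : normSub R, (j : Γ) ∈ J ∧ Φ j = a := fun a ha => by
    obtain ⟨j, hj, rfl⟩ := ha
    exact ⟨j, hj, rfl⟩
  have hPexp : ∀ a ∈ P, a ^ u = 1 := fun a ha => by
    obtain ⟨j, hj, rfl⟩ := hPmem a ha
    rw [← map_pow]
    exact hker _ fun r hr => hexp j hj r hr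
  have hPcomm : ∀ a ∈ P, ∀ b ∈ P, a * b = b * a := fun a ha b hb => by
    obtain ⟨j, hj, rfl⟩ := hPmem a ha
    obtain ⟨k, hk, rfl⟩ := hPmem b hb
    rw [← commutatorElement_eq_one_iff_mul_comm, ← map_commutatorElement]
    refine hker _ fun r hr => ?_
    simp only [commutatorElement_def, coe_mul, InvMemClass.coe_inv]
    exact hcomm j hj k hk r hr
  have hPinv : Inv σ τ P := fun a ha => by
    obtain ⟨j, hj, rfl⟩ := hPmem a ha
    rw [hσ, hτ, ← map_inv, ← map_inv, ← map_mul, ← map_mul, ← map_mul, ← map_mul]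
    exact ⟨mem_map_of_mem _ (show _ ∈ J from (hIJ j hj).1),
      mem_map_of_mem _ (show _ ∈ J from (hIJ j hj).2)⟩
  have hPfree : Free σ τ P := fun a ha h1 h2 => by
    obtain ⟨j, hj, rfl⟩ := hPmem a ha
    let J0 : Subgroup Γ := (J.subgroupOf (normSub R) ⊓ Φ.ker).map (normSub R).subtype
    have hJ0le : J0 ≤ J := by rintro _ ⟨k, hk, rfl⟩; exact hk.1
    have : Finite J0 := Finite.of_injective _ (inclusion_injective hJ0le)
    have hJ0inv : Inv s t J0 := by
      rintro _ ⟨k, ⟨hk, hk'⟩, rfl⟩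
      have e1 : ∀ y : normSub R, Φ (y * k * y⁻¹) = 1 := fun y => by
        rw [map_mul, map_mul, MonoidHom.mem_ker.mp hk', mul_one, ← map_mul, mul_inv_cancel, map_one]
      exact ⟨⟨⟨s, hsN⟩ * k * ⟨s, hsN⟩⁻¹, ⟨(hIJ k hk).1, e1 _⟩, rfl⟩,
        ⟨⟨t, htN⟩ * k * ⟨t, htN⟩⁻¹, ⟨(hIJ k hk).2, e1 _⟩, rfl⟩⟩
    have hmem : ∀ (x : Γ) (hx : x ∈ normSub R), (∀ k ∈ J, x * k * x⁻¹ ∈ J) →
        Φ ⟨x, hx⟩ * Φ j * (Φ ⟨x, hx⟩)⁻¹ = Φ j → (j : Γ)⁻¹ * (x * j * x⁻¹) ∈ J0 := by
      intro x hx hxJ h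
      refine ⟨j⁻¹ * (⟨x, hx⟩ * j * ⟨x, hx⟩⁻¹), ⟨?_, ?_⟩, rfl⟩
      · exact (mul_mem (inv_mem hj) (hxJ _ hj) : (j : Γ)⁻¹ * (x * j * x⁻¹) ∈ J)
      · show Φ _ = 1
        rw [map_mul, map_mul, map_mul, map_inv, map_inv, h, inv_mul_cancel]
    have h3 := mem_of_fixed_mod d hFJ hJ0le hJ0inv (hcopJ.coprime_dvd_left (card_dvd_of_le hJ0le))
      hj (hmem s hsN (fun k hk => (hIJ k hk).1) h1) (hmem t htN (fun k hk => (hIJ k hk).2) h2)
    obtain ⟨k, hk, hkj⟩ := h3
    rw [← Subtype.ext hkj]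
    exact hk.2
  by_cases hbot : P = ⊥
  · intro j hj r hr
    refine hfaith ⟨j, hJN hj⟩ (fun μ _ => ?_) r hr
    have h1 : Φ ⟨j, hJN hj⟩ ∈ P := mem_map_of_mem _ hj
    rw [hbot, mem_bot] at h1
    rw [h1]; rfl
  exfalso
  have hPfin : Finite P := Finite.of_surjective
    (fun j : J => (⟨Φ ⟨j, hJN j.2⟩, mem_map_of_mem _ (show (j : Γ) ∈ J from j.2)⟩ : P))
    fun a => by
      obtain ⟨j, hj, hja⟩ := hPmem a.1 a.2
      exact ⟨⟨j, hj⟩, Subtype.ext hja⟩
  have hfinS : {P' : Subgroup (MulAut (R →* Kˣ)) | P' ≤ P ∧ Inv σ τ P' ∧ P' ≠ ⊥}.Finite := by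
    refine Set.Finite.of_injOn (f := fun P' => P'.subgroupOf P) (t := Set.univ)
      (fun _ _ => Set.mem_univ _) ?_ Set.finite_univ
    intro A hA' B hB' hAB
    rw [← inf_of_le_left hA'.1, ← inf_of_le_left hB'.1]
    exact subgroupOf_inj.mp hAB
  obtain ⟨P1, ⟨hle, hP1inv, hP1ne⟩, hmin⟩ := hfinS.exists_minimal ⟨P, le_rfl, hPinv, hbot⟩
  have hirr : Irred (X := R →* Kˣ) σ τ P1 u :=
    { prime := hu
      five := hu5
      exp := fun a ha => hPexp a (hle ha)
      comm := fun a ha b hb => hPcomm a (hle ha) b (hle hb)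
      inv := hP1inv
      free := hPfree.mono hle
      irred := by
        intro P' hP' hinv
        by_cases hne : P' = ⊥
        · exact Or.inl hne
        · exact Or.inr (le_antisymm hP' (hmin ⟨hP'.trans hle, hinv, hne⟩ hP')) }
  have hX : ∀ μ : R →* Kˣ, σ μ = μ → τ μ = μ → μ = 1 := fun μ h1 h2 =>
    eq_one_of_fixes d hIR hFR hcopR ((charAct_fix_iff _ μ).mp h1) ((charAct_fix_iff _ μ).mp h2)
  have hpow : ∀ μ : R →* Kˣ, μ ^ Nat.card R = 1 := fun μ => MonoidHom.ext fun r => by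
    rw [MonoidHom.pow_apply, ← map_pow, pow_card_eq_one', map_one, MonoidHom.one_apply]
  have hodd : Odd (Nat.card R) := by
    rw [← Nat.coprime_two_right]; exact hcopR.coprime_dvd_right (by norm_num)
  have hstable : ∀ a ∈ P1, ∀ ν ∈ Λ, a ν ∈ Λ := by
    rintro a ha ν ⟨w, hw0, hw⟩
    obtain ⟨j, -, rfl⟩ := hPmem a (hle ha)
    refine ⟨ρ j w, fun h => hw0 ?_, isWeight_apply ρ hw j j.2.2⟩
    have h1 := congrArg (ρ (j : Γ)⁻¹) h
    rwa [map_zero, ← Module.End.mul_apply, ← map_mul, inv_mul_cancel, map_one,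
      Module.End.one_apply] at h1
  have hfixed : ∀ ν ∈ Λ, σ ν = ν ∨ τ ν = ν ∨ (τ * σ) ν = ν ∨ (τ * σ * σ) ν = ν := by
    rintro ν ⟨w, hw0, hw⟩
    by_cases hν : ν = 1
    · subst hν; exact Or.inl rfl
    rw [hσ, hτ, ← map_mul, ← map_mul, charAct_fix_iff, charAct_fix_iff, charAct_fix_iff,
      charAct_fix_iff]
    show Fixes R ν s ∨ Fixes R ν t ∨ Fixes R ν (t * s) ∨ Fixes R ν (t * s * s)
    rw [mul_assoc t s s]
    rcases weight_cases hA hIR hFR hcopR hcardR hν hw0 hw with ⟨h, -⟩ | ⟨-, h | h | h⟩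
    exacts [Or.inl h, Or.inr (Or.inl h.1), Or.inr (Or.inr (Or.inl h.1)),
      Or.inr (Or.inr (Or.inr h.1))]
  have hall := no_weight hd hX hpow hRu hodd hirr Λ hstable hfixed
  apply hP1ne
  rw [eq_bot_iff]
  intro a ha
  obtain ⟨j, -, rfl⟩ := hPmem a (hle ha)
  exact mem_bot.mpr (hker j (hfaith j (fun μ hμ => hall _ ha μ hμ)))

/-- A solvable group of operators is commutative. -/
theorem commutative_of_free (hA : Action ρ s t) (hρ : Function.Injective ρ) (H : Subgroup Γ)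
    [Finite H] (hsol : Group.IsSolvable H) (hI : Inv s t H) (hF : Free s t H)
    (hcop : (Nat.card H).Coprime 6) (hcard : (Nat.card (Cfsg.fittingSubgroup H) : K) ≠ 0) :
    ∀ a ∈ H, ∀ b ∈ H, a * b = b * a := by
  classical
  set Fh := Cfsg.fittingSubgroup H with hFh
  set F : Subgroup Γ := Fh.map H.subtype with hFdef
  have hFle : F ≤ H := map_subtype_le _
  have : Finite F := Finite.of_injective _ (inclusion_injective hFle)
  have hFcard : Nat.card F = Nat.card Fh := card_map_of_injective H.subtype_injective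
  have hIF : Inv s t F := map_subtype_inv hI Fh
  have hFab := commutative_of_nilpotent hA hρ F
    (Lib.Core.isNilpotent_map (Lib.Core.fittingSubgroup_isNilpotent H) _) hIF (hF.mono hFle)
    (hcop.coprime_dvd_left (card_dvd_of_le hFle)) (by rwa [hFcard])
  by_cases htop : Fh = ⊤
  · intro a ha b hb
    exact hFab a ⟨⟨a, ha⟩, htop.ge (mem_top _), rfl⟩ b ⟨⟨b, hb⟩, htop.ge (mem_top _), rfl⟩
  exfalso
  have hFn : Fh.Normal := Lib.Core.fittingSubgroup_normal' H
  obtain ⟨J, ⟨hJn, hFJ, hIJ⟩, hmin⟩ := (Set.toFinite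
    {J : Subgroup H | J.Normal ∧ Fh < J ∧ Inv s t (J.map H.subtype)}).exists_minimal
    ⟨⊤, inferInstance, lt_top_iff_ne_top.mpr htop, by
      rw [← MonoidHom.range_eq_map, range_subtype]; exact hI⟩
  -- the section is abelian
  have hquot : J.map (QuotientGroup.mk' Fh) ≠ ⊥ := fun h => hFJ.not_ge (by
    rwa [Subgroup.map_eq_bot_iff, QuotientGroup.ker_mk'] at h)
  have hsolQ : Group.IsSolvable (H ⧸ Fh) :=
    solvable_of_surjective (QuotientGroup.mk'_surjective Fh)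
  have hJab : ⁅J, J⁆ ≤ Fh := by
    by_contra hne
    have hlt : Fh < ⁅J, J⁆ ⊔ Fh := lt_of_le_of_ne le_sup_right fun e => hne (e.symm ▸ le_sup_left)
    have hinv2 : Inv s t ((⁅J, J⁆ ⊔ Fh).map H.subtype) := by
      rw [Subgroup.map_sup, map_commutator]
      have key : ∀ x, (∀ y ∈ J.map H.subtype, x * y * x⁻¹ ∈ J.map H.subtype) →
          (∀ y ∈ F, x * y * x⁻¹ ∈ F) → ∀ y ∈ ⁅J.map H.subtype, J.map H.subtype⁆ ⊔ F,
          x * y * x⁻¹ ∈ ⁅J.map H.subtype, J.map H.subtype⁆ ⊔ F := by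
        intro x hxJ hxF y hy
        have h1 : x * y * x⁻¹ ∈ (⁅J.map H.subtype, J.map H.subtype⁆ ⊔ F).map
            (MulAut.conj x).toMonoidHom := ⟨y, hy, rfl⟩
        rw [Subgroup.map_sup, map_commutator] at h1
        have hJ' : (J.map H.subtype).map (MulAut.conj x).toMonoidHom ≤ J.map H.subtype := by
          rintro _ ⟨z, hz, rfl⟩; exact hxJ z hz
        have hF' : F.map (MulAut.conj x).toMonoidHom ≤ F := by
          rintro _ ⟨z, hz, rfl⟩; exact hxF z hz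
        exact sup_le_sup (commutator_mono hJ' hJ') hF' h1
      exact fun y hy => ⟨key s (fun z hz => (hIJ z hz).1) (fun z hz => (hIF z hz).1) y hy,
        key t (fun z hz => (hIJ z hz).2) (fun z hz => (hIF z hz).2) y hy⟩
    have hle : ⁅J, J⁆ ⊔ Fh ≤ J := sup_le (commutator_le_self J) hFJ.le
    have heq := hmin ⟨inferInstance, hlt, hinv2⟩ hle
    refine hquot (eq_bot_of_commutator_eq ?_)
    rw [← map_commutator]
    refine le_trans (map_mono heq) ?_
    rw [Subgroup.map_sup, QuotientGroup.map_mk'_self, sup_bot_eq]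
  have hJbar : ∀ a ∈ J, ∀ b ∈ J, (a : H ⧸ Fh) * b = b * a := fun a ha b hb => by
    have h1 : ⁅a, b⁆ ∈ Fh := hJab (commutator_mem_commutator ha hb)
    rw [← commutatorElement_eq_one_iff_mul_comm]
    exact (map_commutatorElement (QuotientGroup.mk' Fh) a b).symm.trans
      ((QuotientGroup.eq_one_iff _).mpr h1)
  obtain ⟨u, hu, hud⟩ := Nat.exists_prime_and_dvd (n := Nat.card (J.map (QuotientGroup.mk' Fh)))
    (fun h => hquot (card_eq_one.mp h))
  have : Fact u.Prime := ⟨hu⟩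
  have hu5 : 5 ≤ u := by
    have hd : u ∣ Nat.card H :=
      hud.trans ((card_subgroup_dvd_card _).trans (Subgroup.card_quotient_dvd_card Fh))
    have h6 : ¬ u ∣ 6 := fun h => hu.not_dvd_one (hcop.gcd_eq_one ▸ Nat.dvd_gcd hd h)
    have := hu.two_le
    by_contra hlt
    interval_cases u <;> simp_all (config := {decide := true})
  -- exponent `u` on the section
  let Ju : Subgroup H :=
    { carrier := {x | x ∈ J ∧ (x : H ⧸ Fh) ^ u = 1}
      one_mem' := ⟨one_mem J, by simp⟩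
      mul_mem' := fun {a b} ha hb => ⟨mul_mem ha.1 hb.1, by
        rw [QuotientGroup.mk_mul, (show Commute (a : H ⧸ Fh) b from hJbar a ha.1 b hb.1).mul_pow,
          ha.2, hb.2, one_mul]⟩
      inv_mem' := fun {a} ha => ⟨inv_mem ha.1, by
        rw [QuotientGroup.mk_inv, inv_pow, ha.2, inv_one]⟩ }
  have hJu : ∀ x ∈ J, x ^ u ∈ Fh := by
    have h1 : Ju.Normal := ⟨fun x hx g => ⟨hJn.conj_mem x hx.1 g, by
      rw [QuotientGroup.mk_mul, QuotientGroup.mk_mul, QuotientGroup.mk_inv, conj_pow, hx.2,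
        mul_one, mul_inv_cancel]⟩⟩
    have h2 : Fh < Ju := by
      refine lt_of_le_of_ne (fun x hx => ⟨hFJ.le hx, by
        rw [(QuotientGroup.eq_one_iff x).mpr hx, one_pow]⟩) fun e => ?_
      obtain ⟨⟨y, x, hx, rfl⟩, hy⟩ := exists_prime_orderOf_dvd_card'
        (G := J.map (QuotientGroup.mk' Fh)) u hud
      have hxu : x ∈ Ju := ⟨hx, by
        have h3 := pow_orderOf_eq_one (⟨(x : H ⧸ Fh), x, hx, rfl⟩ : J.map (QuotientGroup.mk' Fh))
        have h4 : orderOf (⟨(x : H ⧸ Fh), x, hx, rfl⟩ : J.map (QuotientGroup.mk' Fh)) = u := hy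
        rw [h4] at h3
        exact congrArg Subtype.val h3⟩
      rw [← e] at hxu
      have h5 : (⟨QuotientGroup.mk' Fh x, x, hx, rfl⟩ : J.map (QuotientGroup.mk' Fh)) = 1 :=
        Subtype.ext ((QuotientGroup.eq_one_iff x).mpr hxu)
      rw [h5, orderOf_one] at hy
      exact hu.ne_one hy.symm
    have h3 : Inv s t (Ju.map H.subtype) := by
      have key : ∀ x, (hx : ∀ y ∈ H, x * y * x⁻¹ ∈ H) →
          (∀ y ∈ J.map H.subtype, x * y * x⁻¹ ∈ J.map H.subtype) →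
          (∀ y ∈ F, x * y * x⁻¹ ∈ F) → ∀ y ∈ Ju.map H.subtype, x * y * x⁻¹ ∈ Ju.map H.subtype := by
        rintro x hx hxJ hxF _ ⟨y, ⟨hyJ, hyu⟩, rfl⟩
        refine ⟨cj H x hx y, ⟨?_, ?_⟩, rfl⟩
        · obtain ⟨z, hz, hz'⟩ := hxJ _ (mem_map_of_mem _ hyJ)
          rwa [← (Subtype.ext hz' : z = cj H x hx y)]
        · rw [← QuotientGroup.mk_pow, QuotientGroup.eq_one_iff, ← map_pow]
          rw [← QuotientGroup.mk_pow, QuotientGroup.eq_one_iff] at hyu
          obtain ⟨z, hz, hz'⟩ := hxF _ (mem_map_of_mem _ hyu)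
          rwa [← (Subtype.ext hz' : z = cj H x hx (y ^ u))]
      exact fun y hy => ⟨key s (fun z hz => (hI z hz).1) (fun z hz => (hIJ z hz).1) (fun z hz => (hIF z hz).1) y hy,
        key t (fun z hz => (hI z hz).2) (fun z hz => (hIJ z hz).2) (fun z hz => (hIF z hz).2) y hy⟩
    intro x hx
    have h4 := hmin ⟨h1, h2, h3⟩ (fun y hy => hy.1) hx
    rw [← QuotientGroup.eq_one_iff]
    exact h4.2
  -- the part of `F` of order prime to `u`
  set m := ordCompl[u] (Nat.card F) with hm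
  set k := (Nat.card F).factorization u with hk
  have hmk : u ^ k * m = Nat.card F := Nat.ordProj_mul_ordCompl_eq_self _ u
  have hmu : ¬ u ∣ m := Nat.not_dvd_ordCompl hu Nat.card_pos.ne'
  let R : Subgroup Γ :=
    { carrier := {x | x ∈ F ∧ x ^ m = 1}
      one_mem' := ⟨one_mem F, one_pow m⟩
      mul_mem' := fun {a b} ha hb => ⟨mul_mem ha.1 hb.1, by
        rw [(show Commute a b from hFab a ha.1 b hb.1).mul_pow, ha.2, hb.2, one_mul]⟩
      inv_mem' := fun {a} ha => ⟨inv_mem ha.1, by rw [inv_pow, ha.2, inv_one]⟩ }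
  have hRle : R ≤ F := fun x hx => hx.1
  have : Finite R := Finite.of_injective _ (inclusion_injective hRle)
  have hRu : (Nat.card R).Coprime u := (hu.coprime_iff_not_dvd.mpr fun hd => by
    obtain ⟨x, hx⟩ := exists_prime_orderOf_dvd_card' (G := R) u hd
    rw [← orderOf_coe] at hx
    exact hmu (hx ▸ orderOf_dvd_of_pow_eq_one x.2.2)).symm
  have hIR : Inv s t R := fun x hx =>
    ⟨⟨(hIF x hx.1).1, by rw [conj_pow, hx.2, mul_one, mul_inv_cancel]⟩,
      ⟨(hIF x hx.1).2, by rw [conj_pow, hx.2, mul_one, mul_inv_cancel]⟩⟩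
  set JΓ := J.map H.subtype with hJΓ
  have hJle : JΓ ≤ H := map_subtype_le _
  have : Finite JΓ := Finite.of_injective _ (inclusion_injective hJle)
  have hJR : ∀ j ∈ JΓ, ∀ r ∈ R, j * r * j⁻¹ ∈ R := by
    rintro _ ⟨j, -, rfl⟩ r ⟨hr, hrm⟩
    obtain ⟨r, hr, rfl⟩ := hr
    exact ⟨⟨j * r * j⁻¹, hFn.conj_mem r hr j, rfl⟩, by rw [conj_pow, hrm, mul_one, mul_inv_cancel]⟩
  have hFR : ∀ f ∈ F, ∀ r ∈ R, f * r = r * f := fun f hf r hr => hFab f hf r hr.1
  have hcent := centralizes_coprime_part hA hρ hu hu5 hIR (hF.mono (hRle.trans hFle))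
    (hcop.coprime_dvd_left (card_dvd_of_le (hRle.trans hFle)))
    (fun h => hcard (by
      obtain ⟨c, hc⟩ := card_dvd_of_le hRle
      rw [← hFcard, hc, Nat.cast_mul, h, zero_mul]))
    hRu (fun a ha b hb => hFab a ha.1 b hb.1) hIJ (hF.mono hJle)
    (hcop.coprime_dvd_left (card_dvd_of_le hJle)) hJR
    (fun j hj r hr => by
      obtain ⟨j, hj, rfl⟩ := hj
      refine hFR _ ?_ r hr
      rw [← map_pow]
      exact mem_map_of_mem _ (hJu j hj))
    (fun a ha b hb r hr => by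
      obtain ⟨a, ha, rfl⟩ := ha
      obtain ⟨b, hb, rfl⟩ := hb
      refine hFR _ ?_ r hr
      rw [← map_commutatorElement]
      exact mem_map_of_mem _ (hJab (commutator_mem_commutator ha hb)))
  -- so the section is nilpotent
  have hnil : Group.IsNilpotent J := by
    let R' : Subgroup J := R.comap (H.subtype.comp J.subtype)
    have hR'n : R'.Normal := ⟨fun x hx g => by
      show ((g : H) : Γ) * ((x : H) : Γ) * ((g : H) : Γ)⁻¹ ∈ R
      exact hJR _ (mem_map_of_mem _ g.2) _ hx⟩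
    have hp : IsPGroup u (J ⧸ R') := by
      intro y
      obtain ⟨x, rfl⟩ := QuotientGroup.mk'_surjective R' y
      refine ⟨k + 1, ?_⟩
      rw [← map_pow, QuotientGroup.mk'_apply, QuotientGroup.eq_one_iff]
      show ((((x ^ u ^ (k + 1) : J) : H) : Γ)) ∈ R
      have hxF : ((((x : H) ^ u : H)) : Γ) ∈ F := mem_map_of_mem _ (hJu x x.2)
      rw [SubgroupClass.coe_pow, pow_succ', pow_mul, SubgroupClass.coe_pow]
      refine ⟨pow_mem hxF _, ?_⟩
      rw [← pow_mul, hmk]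
      exact congrArg Subtype.val (pow_card_eq_one' (x := (⟨_, hxF⟩ : F)))
    have := hp.isNilpotent
    refine Subgroup.isNilpotent_of_ker_le_center (QuotientGroup.mk' R') (fun x hx => ?_)
    rw [QuotientGroup.ker_mk'] at hx
    exact mem_center_iff.mpr fun g => Subtype.ext (Subtype.ext
      (hcent _ (mem_map_of_mem _ g.2) _ hx))
  exact hFJ.not_ge (Lib.Core.le_fittingSubgroup' hJn hnil)

end Cfsg.Lib.SymThree
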