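import Mathlib

/-!
# Weight spaces of finite groups of operators

For a finite group `R` acting linearly with commuting images, common eigenvectors exist, and
eigenvectors with distinct weights are separated by averaging.
-/

set_option autoImplicit false

namespace Cfsg.Lib.SymThree

open Module

variable {K : Type*} [Field K] {W : Type*} [AddCommGroup W] [Module K W]
  {R : Type*} [Group R]

/-- `w` is an eigenvector of weight `μ`. -/
def IsWeight (ρ : R →* Module.End K W) (μ : R →* Kˣ) (w : W) : Prop :=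
  ∀ r, ρ r w = ((μ r : Kˣ) : K) • w

/-- The weight space. -/
def weightSpace (ρ : R →* Module.End K W) (μ : R →* Kˣ) : Submodule K W where
  carrier := {w | IsWeight ρ μ w}
  add_mem' := fun {a b} ha hb r => by rw [map_add, ha r, hb r, smul_add]
  zero_mem' := fun r => by rw [map_zero, smul_zero]
  smul_mem' := fun c a ha r => by rw [map_smul, ha r, smul_comm]

theorem mem_weightSpace {ρ : R →* Module.End K W} {μ : R →* Kˣ} {w : W} :
    w ∈ weightSpace ρ μ ↔ IsWeight ρ μ w := Iff.rfl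

/-- Averaging against a weight. -/
noncomputable def weightAvg [Fintype R] (ρ : R →* Module.End K W) (μ : R →* Kˣ) : Module.End K W :=
  ∑ r : R, ((μ r⁻¹ : Kˣ) : K) • ρ r

theorem weightAvg_self [Fintype R] (ρ : R →* Module.End K W) (μ : R →* Kˣ) {w : W}
    (hw : IsWeight ρ μ w) : weightAvg ρ μ w = (Fintype.card R : K) • w := by
  rw [weightAvg, LinearMap.sum_apply, ← Finset.card_univ, ← nsmul_one, Finset.card_univ]
  simp only [LinearMap.smul_apply, hw _, smul_smul, ← Units.val_mul, ← map_mul, inv_mul_cancel,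
    map_one, Units.val_one, one_smul, Finset.sum_const, Finset.card_univ]
  rw [nsmul_one, Nat.cast_smul_eq_nsmul]

theorem weightAvg_ne [Fintype R] (ρ : R →* Module.End K W) {μ ν : R →* Kˣ} (hne : ν ≠ μ) {w : W}
    (hw : IsWeight ρ ν w) : weightAvg ρ μ w = 0 := by
  rw [weightAvg, LinearMap.sum_apply]
  simp only [LinearMap.smul_apply, hw _, smul_smul]
  rw [← Finset.sum_smul]
  have h : ∑ r : R, ((μ r⁻¹ : Kˣ) : K) * ((ν r : Kˣ) : K) = 0 := by
    let f : R →* K :=
      { toFun := fun r => ((μ r⁻¹ : Kˣ) : K) * ((ν r : Kˣ) : K)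
        map_one' := by simp
        map_mul' := fun a b => by
          simp only [mul_inv_rev, map_mul, Units.val_mul]; ring }
    refine sum_hom_units_eq_zero f fun hf => hne (MonoidHom.ext fun r => ?_)
    have h1 : ((μ r⁻¹ : Kˣ) : K) * ((ν r : Kˣ) : K) = 1 := DFunLike.congr_fun hf r
    rw [← Units.val_mul, Units.val_eq_one, map_inv, inv_mul_eq_one] at h1
    exact h1.symm
  rw [h, zero_smul]

variable [IsAlgClosed K] [FiniteDimensional K W]

/-- Commuting operators stabilizing a nonzero subspace have a common weight there. -/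
theorem exists_weight_mem (ρ : R →* Module.End K W) (hc : ∀ a b, Commute (ρ a) (ρ b))
    (W0 : Submodule K W) (hne : W0 ≠ ⊥) (hinv : ∀ r, ∀ w ∈ W0, ρ r w ∈ W0) :
    ∃ μ : R →* Kˣ, ∃ w ∈ W0, w ≠ 0 ∧ IsWeight ρ μ w := by
  obtain ⟨S, ⟨hS0, hSne, hSinv⟩, hmin⟩ := wellFounded_lt.has_min
    {S : Submodule K W | S ≤ W0 ∧ S ≠ ⊥ ∧ ∀ r, ∀ w ∈ S, ρ r w ∈ S} ⟨W0, le_rfl, hne, hinv⟩
  have hscal : ∀ r, ∃ c : K, ∀ w ∈ S, ρ r w = c • w := by
    intro r
    have : Nontrivial S := (Submodule.nontrivial_iff_ne_bot).mpr hSne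
    obtain ⟨c, hc'⟩ := Module.End.exists_eigenvalue ((ρ r).restrict (hSinv r))
    obtain ⟨v, hv⟩ := hc'.exists_hasEigenvector
    refine ⟨c, ?_⟩
    let T : Submodule K W := S ⊓ LinearMap.ker (ρ r - c • LinearMap.id)
    have hTmem : ∀ w, w ∈ T ↔ w ∈ S ∧ ρ r w = c • w := fun w => by
      simp [T, sub_eq_zero]
    have hTne : T ≠ ⊥ := by
      intro h
      have h1 : (v : W) ∈ T := (hTmem _).mpr ⟨v.2, congrArg Subtype.val hv.apply_eq_smul⟩
      rw [h, Submodule.mem_bot] at h1
      exact hv.2 (Subtype.ext h1)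
    have hTinv : ∀ r', ∀ w ∈ T, ρ r' w ∈ T := fun r' w hw => by
      rw [hTmem] at hw ⊢
      refine ⟨hSinv r' w hw.1, ?_⟩
      rw [← Module.End.mul_apply, (hc r r').eq, Module.End.mul_apply, hw.2, map_smul]
    have hTS : T = S := by
      rcases eq_or_lt_of_le (inf_le_left : T ≤ S) with h | h
      · exact h
      · exact absurd h (hmin T ⟨inf_le_left.trans hS0, hTne, hTinv⟩)
    exact fun w hw => ((hTmem w).mp (hTS.symm ▸ hw)).2
  choose c hc using hscal
  obtain ⟨w, hwS, hw0⟩ := Submodule.exists_mem_ne_zero_of_ne_bot hSne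
  have h1 : c 1 = 1 := by
    have h := hc 1 w hwS
    rw [map_one, Module.End.one_apply] at h
    exact (smul_left_injective K hw0 (((one_smul K w).trans h).symm))
  have hmul : ∀ a b, c (a * b) = c a * c b := fun a b => by
    have h := hc (a * b) w hwS
    rw [map_mul, Module.End.mul_apply, hc b w hwS, map_smul, hc a w hwS, smul_smul] at h
    exact smul_left_injective K hw0 (h.symm.trans (by rw [mul_comm]))
  refine ⟨MonoidHom.toHomUnits { toFun := c, map_one' := h1, map_mul' := hmul },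
    w, hS0 hwS, hw0, fun r => ?_⟩
  exact hc r w hwS

/-- A nontrivial operator of order prime to the characteristic is nontrivial on some weight. -/
theorem exists_weight_ne_one [Finite R] (hcard : (Nat.card R : K) ≠ 0)
    (ρ : R →* Module.End K W) (hc : ∀ a b, Commute (ρ a) (ρ b))
    (W0 : Submodule K W) (hinv : ∀ r, ∀ w ∈ W0, ρ r w ∈ W0) {z : R} {u : W} (hu : u ∈ W0)
    (hz : ρ z u ≠ u) :
    ∃ μ : R →* Kˣ, ∃ w ∈ W0, w ≠ 0 ∧ IsWeight ρ μ w ∧ μ z ≠ 1 := by
  set n := orderOf z with hn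
  have hn0 : (n : K) ≠ 0 := by
    intro h
    obtain ⟨m, hm⟩ := orderOf_dvd_natCard z
    exact hcard (by rw [hm, Nat.cast_mul, h, zero_mul])
  set N : Module.End K W := ∑ i ∈ Finset.range n, ρ z ^ i with hN
  let W1 : Submodule K W := W0 ⊓ LinearMap.ker N
  have hW1 : W1 ≠ ⊥ := by
    intro h
    have h1 : ρ z u - u ∈ W1 := by
      refine ⟨W0.sub_mem (hinv z u hu) hu, ?_⟩
      rw [SetLike.mem_coe, LinearMap.mem_ker]
      have h2 : N * (ρ z - 1) = 0 := by
        rw [hN, geom_sum_mul, ← map_pow, hn, pow_orderOf_eq_one, map_one, sub_self]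
      simpa using LinearMap.congr_fun h2 u
    rw [h, Submodule.mem_bot, sub_eq_zero] at h1
    exact hz h1
  have hW1inv : ∀ r, ∀ w ∈ W1, ρ r w ∈ W1 := fun r w hw => by
    obtain ⟨ha, hb⟩ := hw
    refine ⟨hinv r w ha, ?_⟩
    rw [SetLike.mem_coe, LinearMap.mem_ker] at hb ⊢
    have hcomm : Commute N (ρ r) := Commute.sum_left _ _ _ fun i _ => ((hc z r).pow_left i)
    rw [← Module.End.mul_apply, hcomm.eq, Module.End.mul_apply, hb, map_zero]
  obtain ⟨μ, w, hw, hw0, hμ⟩ := exists_weight_mem ρ hc W1 hW1 hW1inv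
  refine ⟨μ, w, hw.1, hw0, hμ, fun h => ?_⟩
  have h2 : N w = 0 := LinearMap.mem_ker.mp hw.2
  have h3 : ∀ i : ℕ, (ρ z ^ i) w = w := fun i => by
    rw [← map_pow, hμ, map_pow, h, one_pow, Units.val_one, one_smul]
  rw [hN, LinearMap.sum_apply] at h2
  simp only [h3, Finset.sum_const, Finset.card_range] at h2
  rw [← Nat.cast_smul_eq_nsmul K, smul_eq_zero] at h2
  exact h2.elim hn0 hw0

end Cfsg.Lib.SymThree
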