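import Cfsg.Agent.Lib.SymThree.Quadratic
import Cfsg.Agent.Lib.SymThree.Weights

/-!
# Projectively commuting operators with an operator of order three

If scalar commutators define a nondegenerate pairing on which the order three operator acts
freely, then this operator cannot be a root of `X ^ 2 + X + 1`, by counting dimensions.
-/

set_option autoImplicit false

namespace Cfsg.Lib.SymThree

open Module

variable {K : Type*} [Field K] [IsAlgClosed K] {W : Type*} [AddCommGroup W] [Module K W]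
  [FiniteDimensional K W] {F : Type*} [Group F]

/-- Twisted average of conjugates. -/
noncomputable def twistAvg [Fintype F] (ρ : F →* Module.End K W) (χ : F →* F →* Kˣ) (g : F) :
    Module.End K W →ₗ[K] Module.End K W :=
  ∑ h : F, ((χ g h : Kˣ) : K) • (LinearMap.mulLeft K (ρ h)).comp (LinearMap.mulRight K (ρ h⁻¹))

theorem twistAvg_apply [Fintype F] (ρ : F →* Module.End K W) (χ : F →* F →* Kˣ) (g : F)
    (X : Module.End K W) :
    twistAvg ρ χ g X = ∑ h : F, ((χ g h : Kˣ) : K) • (ρ h * (X * ρ h⁻¹)) := by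
  rw [twistAvg, LinearMap.sum_apply]
  rfl

theorem chi_symm {ρ : F →* Module.End K W} [Nontrivial W] {χ : F →* F →* Kˣ}
    (hχ : ∀ g h, ρ g * ρ h = ((χ g h : Kˣ) : K) • (ρ h * ρ g)) (g h : F) :
    χ g h * χ h g = 1 := by
  obtain ⟨w, hw⟩ := exists_ne (0 : W)
  have hu : ρ h * ρ g ≠ 0 := by
    intro e
    rw [← map_mul] at e
    have h1 : ρ (h * g) (ρ (h * g)⁻¹ w) = w := by
      rw [← Module.End.mul_apply, ← map_mul, mul_inv_cancel, map_one, Module.End.one_apply]
    rw [e] at h1
    exact hw h1.symm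
  have h1 := hχ h g
  rw [hχ g h, smul_smul, ← Units.val_mul] at h1
  refine Units.ext (smul_left_injective K hu ?_)
  show ((χ g h * χ h g : Kˣ) : K) • (ρ h * ρ g) = ((1 : Kˣ) : K) • (ρ h * ρ g)
  rw [mul_comm, ← h1, Units.val_one, one_smul]

/-- The count, when the radical acts by scalars. -/
theorem radical_count [Fintype F] [Nontrivial W] (hcard : (Nat.card F : K) ≠ 0)
    (hcop : (Nat.card F).Coprime 6) (h2 : (2 : K) ≠ 0) (h3 : (3 : K) ≠ 0)
    (ρ : F →* Module.End K W) (χ : F →* F →* Kˣ)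
    (hχ : ∀ g h, ρ g * ρ h = ((χ g h : Kˣ) : K) • (ρ h * ρ g))
    (hscal : ∀ k ∈ χ.ker, ∃ c : K, ρ k = c • 1)
    (σ : F →* F) (hσ3 : ∀ g, σ (σ (σ g)) = g) (S : Module.End K W)
    (hS : ∀ g, S * ρ g = ρ (σ g) * S) (hquad : S * S + S + 1 = 0)
    (hσχ : ∀ g h, χ (σ g) (σ h) = χ g h) (hfix : ∀ g, χ (σ g) = χ g → χ g = 1) :
    χ.ker = ⊤ := by
  classical
  by_contra hne
  set C := χ.ker with hC
  have hCmem : ∀ k, k ∈ C ↔ χ k = 1 := fun k => Iff.rfl
  let M := F ⧸ C
  have : Fintype M := Fintype.ofFinite M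
  let r : M → F := Quotient.out
  have hr : ∀ m : M, (r m : M) = m := fun m => QuotientGroup.out_eq' m
  have hρinv : ∀ h, ρ h * ρ h⁻¹ = 1 := fun h => by rw [← map_mul, mul_inv_cancel, map_one]
  have hρinv' : ∀ h, ρ h⁻¹ * ρ h = 1 := fun h => by rw [← map_mul, inv_mul_cancel, map_one]
  -- conjugation acts on `ρ g` by scalars
  have hconj : ∀ h g, ρ h * (ρ g * ρ h⁻¹) = ((χ h g : Kˣ) : K) • ρ g := fun h g => by
    rw [← mul_assoc, hχ, smul_mul_assoc, mul_assoc, hρinv, mul_one]
  set n : K := (Fintype.card F : K) with hn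
  have hn0 : n ≠ 0 := by rwa [hn, ← Nat.card_eq_fintype_card]
  have hortho : ∀ (f : F →* Kˣ), ∑ h : F, ((f h : Kˣ) : K) = if f = 1 then n else 0 := by
    intro f
    split_ifs with hf
    · simp [hf, hn]
    · exact sum_hom_units_eq_zero ((Units.coeHom K).comp f) fun e => hf (MonoidHom.ext fun x =>
        Units.ext (DFunLike.congr_fun e x))
  let E0 : Submodule K (Module.End K W) :=
    ⨅ g : F, LinearMap.ker (LinearMap.mulLeft K (ρ g) - LinearMap.mulRight K (ρ g))
  have hE0 : ∀ f, f ∈ E0 ↔ ∀ g, ρ g * f = f * ρ g := fun f => by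
    simp [E0, sub_eq_zero]
  set P := twistAvg ρ χ with hP
  have F1 : ∀ g k X, ((χ g k : Kˣ) : K) • (ρ k * (P g X * ρ k⁻¹)) = P g X := fun g k X => by
    rw [hP, twistAvg_apply, Finset.sum_mul, Finset.mul_sum, Finset.smul_sum]
    refine Fintype.sum_equiv (Equiv.mulLeft k) _ _ fun h => ?_
    rw [Equiv.coe_mulLeft, map_mul (χ g), Units.val_mul, smul_mul_assoc, mul_smul_comm, smul_smul,
      map_mul ρ, mul_inv_rev, map_mul ρ]
    simp only [mul_assoc]
  have F2 : ∀ g X, P g X * ρ g⁻¹ ∈ E0 := fun g X => by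
    rw [hE0]
    intro k
    have hk : χ k g⁻¹ = χ g k := by
      rw [map_inv, inv_eq_iff_mul_eq_one]
      exact chi_symm hχ k g
    calc ρ k * (P g X * ρ g⁻¹) = ρ k * P g X * ρ k⁻¹ * (ρ k * ρ g⁻¹) := by
          rw [mul_assoc (ρ k * P g X), ← mul_assoc (ρ k⁻¹), hρinv', one_mul, mul_assoc]
      _ = ρ k * P g X * ρ k⁻¹ * (((χ g k : Kˣ) : K) • (ρ g⁻¹ * ρ k)) := by rw [hχ k g⁻¹, hk]
      _ = (((χ g k : Kˣ) : K) • (ρ k * (P g X * ρ k⁻¹))) * (ρ g⁻¹ * ρ k) := by
          rw [mul_smul_comm, smul_mul_assoc, mul_assoc (ρ k)]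
      _ = P g X * ρ g⁻¹ * ρ k := by rw [F1, mul_assoc]
  have hsc : ∀ k ∈ C, ∀ X, ρ k * (X * ρ k⁻¹) = X := fun k hk X => by
    obtain ⟨c, hc⟩ := hscal k hk
    have h1 : Commute (ρ k) X := by rw [hc]; exact (Commute.one_left X).smul_left c
    rw [← mul_assoc, h1.eq, mul_assoc, hρinv, mul_one]
  have F3 : ∀ X, ∑ g : F, P g X = (n * (Nat.card C : K)) • X := fun X => by
    simp only [hP, twistAvg_apply]
    rw [Finset.sum_comm]
    simp only [← Finset.sum_smul]
    have hsum : ∀ h : F, (∑ g : F, ((χ g h : Kˣ) : K)) • (ρ h * (X * ρ h⁻¹))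
        = if h ∈ C then n • X else 0 := fun h => by
      have e := hortho (MonoidHom.eval h |>.comp χ)
      simp only [MonoidHom.comp_apply, MonoidHom.eval_apply_apply] at e
      rw [e]
      have hiff : (MonoidHom.eval h).comp χ = 1 ↔ h ∈ C := by
        rw [hCmem]
        constructor <;> intro hh <;> refine MonoidHom.ext fun x => ?_
        · have h1 := chi_symm hχ h x
          rw [show χ x h = 1 from DFunLike.congr_fun hh x, mul_one] at h1
          simpa using h1
        · have h1 := chi_symm hχ h x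
          rw [hh, MonoidHom.one_apply, one_mul] at h1
          simpa using h1
      by_cases hh : h ∈ C
      · rw [if_pos (hiff.mpr hh), if_pos hh, hsc h hh]
      · rw [if_neg (fun e => hh (hiff.mp e)), if_neg hh, zero_smul]
    rw [Finset.sum_congr rfl fun h _ => hsum h, ← Finset.sum_filter, Finset.sum_const,
      ← Nat.cast_smul_eq_nsmul K, smul_smul, mul_comm n, Nat.card_eq_fintype_card,
      Fintype.card_subtype]
  have F4 : ∀ g X, S * X = X * S → P (σ g) X * S = S * P g X := fun g X hX => by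
    have hinj : Function.Injective σ := fun a b hab => by rw [← hσ3 a, hab, hσ3]
    rw [hP, twistAvg_apply, twistAvg_apply, Finset.sum_mul, Finset.mul_sum]
    refine (Fintype.sum_equiv (Equiv.ofBijective σ (Finite.injective_iff_bijective.mp hinj)) _ _
      fun h => ?_).symm
    rw [Equiv.ofBijective_apply, hσχ, mul_smul_comm, smul_mul_assoc]
    congr 1
    rw [← mul_assoc S, hS, mul_assoc, ← mul_assoc S, hX, mul_assoc X, hS, map_inv]
    simp only [mul_assoc]
  have F5 : ∀ g g' : F, (g : M) = g' → P g = P g' := fun g g' h => by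
    have e : χ g = χ g' := by
      have h1 : χ (g⁻¹ * g') = 1 := (hCmem _).mp (QuotientGroup.eq.mp h)
      rwa [map_mul, map_inv, inv_mul_eq_one] at h1
    rw [hP, twistAvg, twistAvg, e]
  -- independence of the representatives
  let Φ : (M → E0) →ₗ[K] Module.End K W :=
    ∑ m : M, (LinearMap.mulRight K (ρ (r m))).comp (E0.subtype.comp (LinearMap.proj m))
  have hΦ : ∀ f, Φ f = ∑ m, (f m : Module.End K W) * ρ (r m) := fun f => by
    simp [Φ, LinearMap.sum_apply]
  have hΦinj : Function.Injective Φ := by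
    rw [← LinearMap.ker_eq_bot, LinearMap.ker_eq_bot']
    intro f hf
    funext m0
    have h := congrArg (P (r m0)) hf
    rw [hΦ, map_sum, map_zero] at h
    have hterm : ∀ m : M, P (r m0) ((f m : Module.End K W) * ρ (r m))
        = if m = m0 then n • ((f m : Module.End K W) * ρ (r m)) else 0 := fun m => by
      have hterm1 : ∀ h, ρ h * ((f m : Module.End K W) * ρ (r m) * ρ h⁻¹)
          = ((χ h (r m) : Kˣ) : K) • ((f m : Module.End K W) * ρ (r m)) := fun h => by
        rw [mul_assoc, ← mul_assoc (ρ h), (hE0 _).mp (f m).2 h, mul_assoc, hconj, mul_smul_comm]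
      simp only [hP, twistAvg_apply, hterm1, smul_smul, ← Units.val_mul]
      rw [← Finset.sum_smul]
      have e := hortho (χ (r m0) * (χ (r m))⁻¹)
      have hval : ∀ h, χ (r m0) h * χ h (r m) = (χ (r m0) * (χ (r m))⁻¹) h := fun h => by
        rw [MonoidHom.mul_apply, MonoidHom.inv_apply]
        congr 1
        exact eq_inv_of_mul_eq_one_left (chi_symm hχ h (r m))
      simp only [hval, e]
      have hiff : χ (r m0) * (χ (r m))⁻¹ = 1 ↔ m = m0 := by
        constructor
        · intro e'
          rw [← hr m, ← hr m0, QuotientGroup.eq, hCmem]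
          refine MonoidHom.ext fun h => ?_
          have e2 : χ (r m0) h * (χ (r m) h)⁻¹ = 1 := DFunLike.congr_fun e' h
          rw [map_mul, map_inv, MonoidHom.mul_apply, MonoidHom.inv_apply, mul_inv_eq_one.mp e2,
            inv_mul_cancel, MonoidHom.one_apply]
        · rintro rfl
          exact MonoidHom.ext fun h => mul_inv_cancel _
      by_cases hm : m = m0
      · rw [if_pos (hiff.mpr hm), if_pos hm]
      · rw [if_neg (fun e' => hm (hiff.mp e')), if_neg hm, zero_smul]
    rw [Finset.sum_congr rfl fun m _ => hterm m, Finset.sum_ite_eq' Finset.univ m0,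
      if_pos (Finset.mem_univ _), smul_eq_zero] at h
    have h' := congrArg (fun T => T * ρ (r m0)⁻¹) (h.resolve_left hn0)
    simp only [mul_assoc, hρinv, mul_one, zero_mul] at h'
    exact Subtype.ext h'
  have hle1 := LinearMap.finrank_le_finrank_of_injective hΦinj
  rw [finrank_pi_fintype, Finset.sum_const, smul_eq_mul, Finset.card_univ, finrank_linearMap]
    at hle1
  -- representatives of the orbits
  have hσC : C ≤ C.comap σ := fun k hk => by
    rw [Subgroup.mem_comap, hCmem]
    refine MonoidHom.ext fun h => ?_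
    have h1 := hσχ k (σ (σ h))
    rw [hσ3, (hCmem k).mp hk] at h1
    exact h1
  let σ' : M →* M := QuotientGroup.map C C σ hσC
  have hσ' : ∀ g : F, σ' (g : M) = (σ g : F) := fun g => rfl
  have hσ'3 : ∀ m, σ' (σ' (σ' m)) = m := fun m => by
    obtain ⟨g, rfl⟩ := QuotientGroup.mk_surjective m
    rw [hσ', hσ', hσ', hσ3]
  have hσ'fix : ∀ m, σ' m = m → m = 1 := fun m hm => by
    obtain ⟨g, rfl⟩ := QuotientGroup.mk_surjective m
    rw [hσ', QuotientGroup.eq, hCmem, map_mul, map_inv, inv_mul_eq_one] at hm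
    exact (QuotientGroup.eq_one_iff g).mpr ((hCmem g).mpr (hfix g hm))
  let e : M ≃ Fin (Fintype.card M) := Fintype.equivFin M
  let T : Finset M := Finset.univ.filter fun m => e m ≤ e (σ' m) ∧ e m ≤ e (σ' (σ' m))
  have hTmem : ∀ m, m ∈ T ↔ e m ≤ e (σ' m) ∧ e m ≤ e (σ' (σ' m)) := fun m => by simp [T]
  have hinj' : Function.Injective σ' := fun a b hab => by rw [← hσ'3 a, hab, hσ'3]
  have hTcard : 3 * T.card ≤ Fintype.card M + 2 := by
    set T1 := T.erase 1 with hT1
    have hone : ∀ m ∈ T1, m ≠ 1 := fun m hm => (Finset.mem_erase.mp hm).1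
    have hmT : ∀ m ∈ T1, m ∈ T := fun m hm => (Finset.mem_erase.mp hm).2
    have key : ∀ a ∈ T1, ∀ b ∈ T1, σ' a ≠ b ∧ σ' (σ' a) ≠ b := by
      intro a ha b hb
      have ha' := (hTmem a).mp (hmT a ha)
      have hb' := (hTmem b).mp (hmT b hb)
      constructor <;> intro hab <;> rw [← hab] at hb'
      · rw [hσ'3] at hb'
        exact hone a ha (hσ'fix a (e.injective (le_antisymm hb'.2 ha'.1)))
      · rw [hσ'3] at hb'
        have e1 := e.injective (le_antisymm hb'.1 ha'.2)
        exact hone a ha (hσ'fix a (by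
          have e2 := congrArg σ' e1
          rw [hσ'3] at e2
          exact e2.symm))
    let U := T1 ∪ T1.image σ' ∪ T1.image (σ' ∘ σ')
    have d1 : Disjoint T1 (T1.image σ') := by
      rw [Finset.disjoint_left]
      intro b hb hb'
      obtain ⟨a, ha, rfl⟩ := Finset.mem_image.mp hb'
      exact (key a ha _ hb).1 rfl
    have d2 : Disjoint (T1 ∪ T1.image σ') (T1.image (σ' ∘ σ')) := by
      rw [Finset.disjoint_left]
      intro b hb hb'
      obtain ⟨a, ha, rfl⟩ := Finset.mem_image.mp hb'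
      rcases Finset.mem_union.mp hb with hb | hb
      · exact (key a ha _ hb).2 rfl
      · obtain ⟨c, hc, hc'⟩ := Finset.mem_image.mp hb
        exact (key a ha c hc).1 (hinj' hc'.symm)
    have hU : U ⊆ Finset.univ.erase 1 := by
      intro b hb
      refine Finset.mem_erase.mpr ⟨fun hb1 => ?_, Finset.mem_univ _⟩
      subst hb1
      simp only [U, Finset.mem_union, Finset.mem_image, Function.comp_apply] at hb
      rcases hb with (hb | ⟨a, ha, hb⟩) | ⟨a, ha, hb⟩
      · exact hone 1 hb rfl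
      · exact hone a ha (hinj' (hb.trans (map_one σ').symm))
      · exact hone a ha (hinj' (hinj' (hb.trans (by rw [map_one, map_one]))))
    have hcardU := Finset.card_le_card hU
    rw [Finset.card_union_of_disjoint d2, Finset.card_union_of_disjoint d1,
      Finset.card_image_of_injective _ hinj', Finset.card_image_of_injective _ (hinj'.comp hinj'),
      Finset.card_erase_of_mem (Finset.mem_univ _), Finset.card_univ] at hcardU
    have hle : T.card ≤ T1.card + 1 := by
      by_cases h1 : (1 : M) ∈ T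
      · rw [hT1, Finset.card_erase_add_one h1]
      · rw [hT1, Finset.erase_eq_of_notMem h1]; omega
    have hpos : 0 < Fintype.card M := Fintype.card_pos
    omega
  -- fixed operators are determined on the representatives
  set Fix := LinearMap.ker (LinearMap.mulLeft K S - LinearMap.mulRight K S) with hFix
  let Ψ : Fix →ₗ[K] (T → E0) := LinearMap.pi fun m =>
    (((LinearMap.mulRight K (ρ (r m.1)⁻¹)).comp (P (r m.1))).comp Fix.subtype).codRestrict E0
      fun X => F2 _ _
  have hS3 : ∀ A : Module.End K W, S * A = 0 → A = 0 := fun A hA => by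
    have e : (-(S + 1)) * S = 1 := by
      rw [neg_mul, add_mul, one_mul, neg_eq_iff_add_eq_zero]; exact hquad
    rw [← one_mul A, ← e, mul_assoc, hA, mul_zero]
  have hS4 : ∀ A : Module.End K W, A * S = 0 → A = 0 := fun A hA => by
    have e : S * (-(S + 1)) = 1 := by
      rw [mul_neg, mul_add, mul_one, neg_eq_iff_add_eq_zero]; exact hquad
    rw [← mul_one A, ← e, ← mul_assoc, hA, zero_mul]
  have hΨinj : Function.Injective Ψ := by
    rw [← LinearMap.ker_eq_bot, LinearMap.ker_eq_bot']
    intro X hX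
    have hXS : S * X.1 = X.1 * S := by
      have h : S * X.1 - X.1 * S = 0 := LinearMap.mem_ker.mp X.2
      exact sub_eq_zero.mp h
    have hT0 : ∀ m ∈ T, P (r m) X.1 = 0 := fun m hm => by
      have h := congrArg Subtype.val (congrFun hX ⟨m, hm⟩)
      have h' : P (r m) X.1 * ρ (r m)⁻¹ = 0 := h
      rw [← mul_one (P (r m) X.1), ← hρinv' (r m), ← mul_assoc, h', zero_mul]
    have hstep : ∀ m, P (r m) X.1 = 0 → P (r (σ' m)) X.1 = 0 := fun m hm => by
      refine hS4 _ ?_
      rw [F5 (r (σ' m)) (σ (r m)) (by rw [hr, ← hσ', hr]), F4 _ _ hXS, hm, mul_zero]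
    have hall : ∀ g, P g X.1 = 0 := fun g => by
      rw [F5 g (r (g : M)) (hr _).symm]
      set m : M := (g : M)
      obtain ⟨m0, hm0, hmin⟩ := Finset.exists_min_image ({m, σ' m, σ' (σ' m)} : Finset M) e
        (Finset.insert_nonempty _ _)
      simp only [Finset.mem_insert, Finset.mem_singleton] at hm0 hmin
      have hc : σ' m0 = m ∨ σ' m0 = σ' m ∨ σ' m0 = σ' (σ' m) := by
        rcases hm0 with rfl | rfl | rfl
        exacts [Or.inr (Or.inl rfl), Or.inr (Or.inr rfl), Or.inl (hσ'3 m)]
      have hc' : σ' (σ' m0) = m ∨ σ' (σ' m0) = σ' m ∨ σ' (σ' m0) = σ' (σ' m) := by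
        rcases hm0 with rfl | rfl | rfl
        exacts [Or.inr (Or.inr rfl), Or.inl (hσ'3 m), Or.inr (Or.inl (by rw [hσ'3]))]
      have h0 := hT0 m0 ((hTmem m0).mpr ⟨hmin _ hc, hmin _ hc'⟩)
      rcases hm0 with rfl | rfl | rfl
      · exact h0
      · have h1 := hstep _ (hstep _ h0); rwa [hσ'3] at h1
      · have h1 := hstep _ h0; rwa [hσ'3] at h1
    have h := F3 X.1
    simp only [hall, Finset.sum_const_zero] at h
    have hC0 : (Nat.card C : K) ≠ 0 := fun e0 => by
      obtain ⟨c, hc⟩ := C.card_subgroup_dvd_card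
      exact hcard (by rw [hc, Nat.cast_mul, e0, zero_mul])
    exact Subtype.ext ((smul_eq_zero.mp h.symm).resolve_left (mul_ne_zero hn0 hC0))
  have hle2 := LinearMap.finrank_le_finrank_of_injective hΨinj
  rw [finrank_pi_fintype, Finset.sum_const, smul_eq_mul, Finset.card_univ, Fintype.card_coe] at hle2
  have hge := centralizer_dim_ge S hquad h2 h3
  have hMdvd : Nat.card M ∣ Nat.card F := C.index_dvd_card
  have hMcop : (Fintype.card M).Coprime 6 := by
    rw [← Nat.card_eq_fintype_card]; exact hcop.coprime_dvd_left hMdvd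
  have hM1 : Fintype.card M ≠ 1 := by
    rw [← Nat.card_eq_fintype_card]
    exact fun h => hne (Subgroup.index_eq_one.mp h)
  have hM5 : 5 ≤ Fintype.card M := by
    have hpos : 0 < Fintype.card M := Fintype.card_pos
    by_contra h
    push Not at h
    generalize Fintype.card M = c at hpos h hM1 hMcop
    rw [Nat.coprime_iff_gcd_eq_one] at hMcop
    interval_cases c <;> first | omega | (norm_num at hMcop)
  have hW : 0 < finrank K W := finrank_pos
  have hd : 0 < finrank K E0 := by
    by_contra h0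
    have h0' : finrank K E0 = 0 := by omega
    rw [h0', mul_zero] at hle2
    rw [← hFix] at hge
    have : 0 < finrank K W * finrank K W := Nat.mul_pos hW hW
    omega
  rw [← hFix] at hge
  nlinarith [Nat.mul_le_mul_right (finrank K E0) hTcard, Nat.mul_le_mul_right (finrank K E0) hM5]

/-- Scalar commutators are trivial. -/
theorem pairing_eq_one [Fintype F] [Nontrivial W] (hcard : (Nat.card F : K) ≠ 0)
    (hcop : (Nat.card F).Coprime 6) (h2 : (2 : K) ≠ 0) (h3 : (3 : K) ≠ 0)
    (ρ : F →* Module.End K W) (χ : F →* F →* Kˣ)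
    (hχ : ∀ g h, ρ g * ρ h = ((χ g h : Kˣ) : K) • (ρ h * ρ g))
    (σ : F →* F) (hσ3 : ∀ g, σ (σ (σ g)) = g) (S : Module.End K W)
    (hS : ∀ g, S * ρ g = ρ (σ g) * S) (hquad : S * S + S + 1 = 0)
    (hσχ : ∀ g h, χ (σ g) (σ h) = χ g h) (hfix : ∀ g, χ (σ g) = χ g → χ g = 1) :
    χ = 1 := by
  classical
  have hσC : ∀ k ∈ χ.ker, σ k ∈ χ.ker := fun k hk => MonoidHom.ext fun h => by
    have h1 := hσχ k (σ (σ h))
    rw [hσ3, MonoidHom.mem_ker.mp hk] at h1
    exact h1
  let ρC := ρ.comp χ.ker.subtype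
  have hcomm : ∀ a b : χ.ker, Commute (ρC a) (ρC b) := fun a b => by
    show ρ (a : F) * ρ (b : F) = ρ (b : F) * ρ (a : F)
    rw [hχ, MonoidHom.mem_ker.mp a.2, MonoidHom.one_apply, Units.val_one, one_smul]
  obtain ⟨ν, w, -, hw0, hν⟩ := exists_weight_mem ρC hcomm ⊤ top_ne_bot fun _ _ _ => trivial
  let σC : χ.ker →* χ.ker := (σ.comp χ.ker.subtype).codRestrict χ.ker fun k => hσC k k.2
  have hσC3 : ∀ k, σC (σC (σC k)) = k := fun k => Subtype.ext (hσ3 k)
  have hSw : ∀ (μ : χ.ker →* Kˣ) (v : W), IsWeight ρC μ v →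
      IsWeight ρC (μ.comp (σC.comp σC)) (S v) := fun μ v hv k => by
    show ρ (k : F) (S v) = _
    conv_lhs => rw [← hσ3 k, ← Module.End.mul_apply, ← hS, Module.End.mul_apply]
    have h1 : ρ (σ (σ (k : F))) v = ((μ (σC (σC k)) : Kˣ) : K) • v := hv (σC (σC k))
    rw [h1, map_smul]
    rfl
  have hνfix : ν.comp (σC.comp σC) = ν := by
    by_contra hne
    have : Fintype χ.ker := Fintype.ofFinite _
    have h1 := hSw ν w hν
    have h4 := hSw _ _ h1
    have hne2 : (ν.comp (σC.comp σC)).comp (σC.comp σC) ≠ ν := by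
      intro e
      refine hne (MonoidHom.ext fun k => ?_)
      have h5 := DFunLike.congr_fun e (σC (σC k))
      simp only [MonoidHom.comp_apply, hσC3] at h5 ⊢
      exact h5.symm
    have h := congrArg (weightAvg ρC ν) (LinearMap.congr_fun hquad w)
    simp only [LinearMap.add_apply, Module.End.mul_apply, Module.End.one_apply,
      LinearMap.zero_apply, map_add, map_zero] at h
    rw [weightAvg_ne ρC hne h1, weightAvg_ne ρC hne2 h4, weightAvg_self ρC ν hν, zero_add, zero_add,
      smul_eq_zero] at h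
    refine h.elim (fun h0 => hcard ?_) hw0
    obtain ⟨c, hc⟩ := χ.ker.card_subgroup_dvd_card
    rw [hc, Nat.cast_mul, Nat.card_eq_fintype_card, h0, zero_mul]
  let W' := weightSpace ρC ν
  have hgW : ∀ g, ∀ v ∈ W', ρ g v ∈ W' := fun g v hv k => by
    show ρ (k : F) (ρ g v) = _
    rw [← Module.End.mul_apply, hχ, MonoidHom.mem_ker.mp k.2, MonoidHom.one_apply, Units.val_one,
      one_smul, Module.End.mul_apply, show ρ (k : F) v = _ from hv k, map_smul]
  have hSW : ∀ v ∈ W', S v ∈ W' := fun v hv => by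
    have h := hSw ν v hv
    rwa [hνfix] at h
  let ρ' : F →* Module.End K W' :=
    { toFun := fun g => (ρ g).restrict (hgW g)
      map_one' := LinearMap.ext fun v => Subtype.ext (by
        show ρ 1 (v : W) = v
        rw [map_one]; rfl)
      map_mul' := fun a b => LinearMap.ext fun v => Subtype.ext (by
        show ρ (a * b) (v : W) = ρ a (ρ b v)
        rw [map_mul]; rfl) }
  have : Nontrivial W' := (Submodule.nontrivial_iff_ne_bot).mpr fun h => hw0 (by
    have h1 : w ∈ W' := hν
    rwa [h, Submodule.mem_bot] at h1)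
  have hker := radical_count hcard hcop h2 h3 ρ' χ
    (fun g h => LinearMap.ext fun v => Subtype.ext (LinearMap.congr_fun (hχ g h) (v : W)))
    (fun k hk => ⟨((ν ⟨k, hk⟩ : Kˣ) : K), LinearMap.ext fun v => Subtype.ext (v.2 ⟨k, hk⟩)⟩)
    σ hσ3 (S.restrict hSW)
    (fun g => LinearMap.ext fun v => Subtype.ext (LinearMap.congr_fun (hS g) (v : W)))
    (LinearMap.ext fun v => Subtype.ext (LinearMap.congr_fun hquad (v : W))) hσχ hfix
  exact MonoidHom.ker_eq_top_iff.mp hker

end Cfsg.Lib.SymThree
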