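import Cfsg.Agent.Lib.SymThree.Stab
import Cfsg.Agent.Lib.SymThree.Radical

/-!
# Nilpotent groups of operators with free action of the symmetric group of degree three are abelian
-/

set_option autoImplicit false

namespace Cfsg.Lib.SymThree

open Subgroup Module
open scoped commutatorElement

variable {Γ : Type*} [Group Γ] {K : Type*} [Field K] [IsAlgClosed K] {W : Type*} [AddCommGroup W]
  [Module K W] [FiniteDimensional K W] {ρ : Γ →* Module.End K W} {s t : Γ}

theorem Action.two_ne (hA : Action ρ s t) : (2 : K) ≠ 0 := fun h => hA.six_ne (by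
  rw [show (6 : K) = 2 * 3 by norm_num, h, zero_mul])

theorem Action.three_ne (hA : Action ρ s t) : (3 : K) ≠ 0 := fun h => hA.six_ne (by
  rw [show (6 : K) = 2 * 3 by norm_num, h, mul_zero])

theorem commutator_mul_right' {k g h : Γ} (hc : g * ⁅k, h⁆ = ⁅k, h⁆ * g) :
    ⁅k, g * h⁆ = ⁅k, g⁆ * ⁅k, h⁆ := by
  rw [show ⁅k, g * h⁆ = ⁅k, g⁆ * (g * ⁅k, h⁆ * g⁻¹) by simp only [commutatorElement_def]; group,
    hc, mul_inv_cancel_right]

theorem commutator_mul_left' {j k g : Γ} (hc : j * ⁅k, g⁆ = ⁅k, g⁆ * j) :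
    ⁅j * k, g⁆ = ⁅k, g⁆ * ⁅j, g⁆ := by
  rw [show ⁅j * k, g⁆ = j * ⁅k, g⁆ * j⁻¹ * ⁅j, g⁆ by simp only [commutatorElement_def]; group,
    hc, mul_inv_cancel_right]

theorem conj_commutatorElement (x a b : Γ) :
    x * ⁅a, b⁆ * x⁻¹ = ⁅x * a * x⁻¹, x * b * x⁻¹⁆ := by
  simp only [commutatorElement_def]; group

section step

variable {F Y Z : Subgroup Γ}

/-- The pairing given by a weight of a central subgroup. -/
noncomputable def commPair (μ : Z →* Kˣ) (hYF : Y ≤ F) (hmem : ∀ k ∈ Y, ∀ g ∈ F, ⁅k, g⁆ ∈ Z)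
    (hcen : ∀ z ∈ Z, ∀ g ∈ F, z * g = g * z) : Y →* F →* Kˣ where
  toFun k :=
    { toFun := fun g => μ ⟨⁅(k : Γ), (g : Γ)⁆, hmem k k.2 g g.2⟩
      map_one' := by
        rw [← map_one μ]; exact congrArg μ (Subtype.ext (by simp [commutatorElement_one_right]))
      map_mul' := fun g h => by
        rw [← map_mul]
        exact congrArg μ (Subtype.ext
          (commutator_mul_right' (hcen _ (hmem k k.2 h h.2) g g.2).symm)) }
  map_one' := MonoidHom.ext fun g => by
    show μ _ = 1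
    rw [← map_one μ]; exact congrArg μ (Subtype.ext (by simp [commutatorElement_one_left]))
  map_mul' j k := MonoidHom.ext fun g => by
    show μ _ = μ _ * μ _
    rw [mul_comm, ← map_mul]
    exact congrArg μ (Subtype.ext
      (commutator_mul_left' (hcen _ (hmem k k.2 g g.2) j (hYF j.2)).symm))

variable {μ : Z →* Kˣ} (hYF : Y ≤ F) (hmem : ∀ k ∈ Y, ∀ g ∈ F, ⁅k, g⁆ ∈ Z)
  (hcen : ∀ z ∈ Z, ∀ g ∈ F, z * g = g * z)

theorem commPair_spec {v : W} (hv : IsWeight (ρ.comp Z.subtype) μ v) (k : Y) (g : F) :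
    ρ k (ρ g v) = ((commPair μ hYF hmem hcen k g : Kˣ) : K) • ρ g (ρ k v) := by
  set z : Z := ⟨⁅(k : Γ), (g : Γ)⁆, hmem k k.2 g g.2⟩ with hz
  show _ = ((μ z : Kˣ) : K) • _
  have e : (k : Γ) * g = g * k * z := by
    have hzk := hcen _ z.2 _ (hYF k.2)
    have hzg := hcen _ z.2 _ g.2
    have h1 : (k : Γ) * g = z * ((g : Γ) * k) := by
      rw [hz]; simp only [commutatorElement_def]; group
    rw [h1, ← mul_assoc, hzg, mul_assoc, hzk, mul_assoc]
  rw [← Module.End.mul_apply, ← map_mul, e, map_mul, map_mul, Module.End.mul_apply,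
    Module.End.mul_apply, show ρ (z : Γ) v = _ from hv z, map_smul, map_smul]

theorem commPair_fixes {x : Γ} (hx : Fixes Z μ x) (hY : ∀ y ∈ Y, x * y * x⁻¹ ∈ Y)
    (hF : ∀ y ∈ F, x * y * x⁻¹ ∈ F) (k : Y) (g : F) :
    commPair μ hYF hmem hcen (cj Y x hY k) (cj F x hF g) = commPair μ hYF hmem hcen k g := by
  obtain ⟨h1, e1⟩ := hx ⟨⁅x * k * x⁻¹, x * g * x⁻¹⁆, hmem _ (hY k k.2) _ (hF g g.2)⟩
  refine e1.symm.trans (congrArg μ (Subtype.ext ?_))
  show x⁻¹ * ⁅x * k * x⁻¹, x * g * x⁻¹⁆ * x = ⁅(k : Γ), (g : Γ)⁆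
  rw [← conj_commutatorElement]; group

include hYF hcen in
theorem weight_apply_mem {v : W} (hv : IsWeight (ρ.comp Z.subtype) μ v) {g : Γ} (hg : g ∈ F) :
    IsWeight (ρ.comp Z.subtype) μ (ρ g v) := fun z => by
  show ρ (z : Γ) (ρ g v) = _
  rw [← Module.End.mul_apply, ← map_mul, hcen _ z.2 g hg, map_mul, Module.End.mul_apply,
    show ρ (z : Γ) v = _ from hv z, map_smul]

variable [Finite F] (hA : Action ρ s t) (hF : Free s t F) (hcop : (Nat.card F).Coprime 6)
  (hIF : Inv s t F) (hIY : Inv s t Y) (hIZ : Inv s t Z) (hZF : Z ≤ F)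

include hA hF hcop hIF hIY hIZ hZF in
/-- An involution fixing the weight kills the pairing. -/
theorem commPair_reflection (hcard : (Nat.card F : K) ≠ 0) {w : W} (hw0 : w ≠ 0)
    (hw : IsWeight (ρ.comp Z.subtype) μ w) (hμ : μ ≠ 1) (ht : Fixes Z μ t)
    (hs : ¬ Fixes Z μ s) : commPair μ hYF hmem hcen = 1 := by
  have : Finite Y := Finite.of_injective _ (inclusion_injective hYF)
  have : Finite Z := Finite.of_injective _ (inclusion_injective hZF)
  have d := hA.datum
  have hcopY := hcop.coprime_dvd_left (card_dvd_of_le hYF)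
  have hcopZ := hcop.coprime_dvd_left (card_dvd_of_le hZF)
  have hcardZ : (Nat.card Z : K) ≠ 0 := fun h => by
    obtain ⟨c, hc⟩ := card_dvd_of_le hZF
    exact hcard (by rw [hc, Nat.cast_mul, h, zero_mul])
  have hneg : ∀ v, IsWeight (ρ.comp Z.subtype) μ v → ρ t v = -v := fun v hv => by
    by_cases hv0 : v = 0
    · rw [hv0, map_zero, neg_zero]
    rcases weight_cases hA hIZ (hF.mono hZF) hcopZ hcardZ hμ hv0 hv with ⟨h, -⟩ | ⟨-, h⟩
    · exact absurd h hs
    rcases h with ⟨-, h⟩ | ⟨h, -⟩ | ⟨h, -⟩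
    · exact h
    · exact absurd (by simpa only [d.t_t] using ht.mul h) hs
    · exact absurd ((fixes_ss_iff d μ).mp (by simpa only [d.t_t] using ht.mul h)) hs
  set B := commPair μ hYF hmem hcen with hB
  set ty := cj Y t (fun y hy => (hIY y hy).2) with hty
  set sy := cj Y s (fun y hy => (hIY y hy).1) with hsy
  set tf := cj F t (fun y hy => (hIF y hy).2) with htf
  set sf := cj F s (fun y hy => (hIF y hy).1) with hsf
  have hconj : ∀ x : Γ, x ∈ F → ∀ v, IsWeight (ρ.comp Z.subtype) μ v →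
      ρ (t * x * t⁻¹) v = ρ x v := fun x hx v hv => by
    rw [map_mul, map_mul, Module.End.mul_apply, Module.End.mul_apply, d.t_inv, hneg v hv, map_neg,
      map_neg, hneg _ (weight_apply_mem hYF hcen hv hx), neg_neg]
  have hne : ∀ (k : Y) (g : F), ρ (g : Γ) (ρ (k : Γ) w) ≠ 0 := fun k g h => by
    rw [← Module.End.mul_apply, ← map_mul] at h
    have h1 := congrArg (ρ ((g : Γ) * k)⁻¹) h
    rw [map_zero, ← Module.End.mul_apply, ← map_mul, inv_mul_cancel, map_one,
      Module.End.one_apply] at h1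
    exact hw0 h1
  have hBy : ∀ k g, B (ty k) g = B k g := fun k g => by
    refine Units.ext (smul_left_injective K (hne k g) ?_)
    show ((B (ty k) g : Kˣ) : K) • ρ (g : Γ) (ρ (k : Γ) w) = ((B k g : Kˣ) : K) • _
    rw [← commPair_spec hYF hmem hcen hw, ← hconj k (hYF k.2) w hw, ← hconj k (hYF k.2) _
      (weight_apply_mem hYF hcen hw g.2)]
    exact (commPair_spec hYF hmem hcen hw (ty k) g).symm
  have hBf : ∀ k g, B k (tf g) = B k g := fun k g => by
    refine Units.ext (smul_left_injective K (hne k g) ?_)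
    show ((B k (tf g) : Kˣ) : K) • ρ (g : Γ) (ρ (k : Γ) w) = ((B k g : Kˣ) : K) • _
    rw [← commPair_spec hYF hmem hcen hw, ← hconj g g.2 w hw, ← hconj g g.2 _
      (weight_apply_mem hYF hcen hw (hYF k.2))]
    exact (commPair_spec hYF hmem hcen hw k (tf g)).symm
  refine MonoidHom.ext fun k => MonoidHom.ext fun g => ?_
  set a := k * ty k with ha
  set b := g * tf g with hb
  have hl : t * (s * s) = s * t := by
    rw [← d.s_inv, ← d.t_s_t, ← mul_assoc, ← mul_assoc, d.t_mul, one_mul]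
  have hssY : ∀ g', B (sy (sy a)) g' = B (sy a) g' := fun g' => by
    have e : ty (sy (sy a)) = sy (ty a) := Subtype.ext (by
      show t * (s * (s * (a : Γ) * s⁻¹) * s⁻¹) * t⁻¹ = s * (t * (a : Γ) * t⁻¹) * s⁻¹
      calc _ = (t * (s * s)) * (a : Γ) * (t * (s * s))⁻¹ := by group
        _ = _ := by rw [hl]; group)
    have htt : ty (ty k) = k := Subtype.ext (by
      show t * (t * (k : Γ) * t⁻¹) * t⁻¹ = k
      calc _ = (t * t) * (k : Γ) * (t * t)⁻¹ := by group
        _ = _ := by rw [d.t_mul]; simp)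
    rw [← hBy, e, ha, map_mul, map_mul, htt, map_mul, map_mul, map_mul]
    exact mul_comm _ _
  have hssF : ∀ k', B k' (sf (sf b)) = B k' (sf b) := fun k' => by
    have e : tf (sf (sf b)) = sf (tf b) := Subtype.ext (by
      show t * (s * (s * (b : Γ) * s⁻¹) * s⁻¹) * t⁻¹ = s * (t * (b : Γ) * t⁻¹) * s⁻¹
      calc _ = (t * (s * s)) * (b : Γ) * (t * (s * s))⁻¹ := by group
        _ = _ := by rw [hl]; group)
    have htt : tf (tf g) = g := Subtype.ext (by
      show t * (t * (g : Γ) * t⁻¹) * t⁻¹ = g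
      calc _ = (t * t) * (g : Γ) * (t * t)⁻¹ := by group
        _ = _ := by rw [d.t_mul]; simp)
    rw [← hBf, e, hb, map_mul, map_mul, htt, map_mul, map_mul, map_mul, mul_comm]
  have s1 : ∀ g', B a g' * B (sy a) g' ^ 2 = 1 := fun g' => by
    have h := hom_sum_three d hIY (hF.mono hYF) hcopY ((MonoidHom.eval g').comp B)
      (fun y => hBy y g') a
    simp only [MonoidHom.comp_apply, MonoidHom.eval_apply_apply, ← hsy] at h
    rw [hssY] at h
    rwa [pow_two, ← mul_assoc]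
  have s2 : ∀ k', B k' b * B k' (sf b) ^ 2 = 1 := fun k' => by
    have h := hom_sum_three d hIF hF hcop (B k') (fun y => hBf k' y) b
    simp only [← hsf] at h
    rw [hssF] at h
    rwa [pow_two, ← mul_assoc]
  set sz := cj Z s (fun y hy => (hIZ y hy).1) with hsz
  have hμt : ∀ z, μ (cj Z t (fun y hy => (hIZ y hy).2) z) = μ z := fun z => by
    obtain ⟨h1, e1⟩ := ht z
    rw [← e1]
    exact congrArg μ (Subtype.ext (show t * z * t⁻¹ = t⁻¹ * z * t by rw [d.t_inv]))
  have s3 := hom_sum_three d hIZ (hF.mono hZF) hcopZ μ hμt ⟨⁅(a : Γ), (b : Γ)⁆, hmem _ a.2 _ b.2⟩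
  have e1 : μ (sz ⟨⁅(a : Γ), (b : Γ)⁆, hmem _ a.2 _ b.2⟩) = B (sy a) (sf b) :=
    congrArg μ (Subtype.ext (conj_commutatorElement s a b))
  have e2 : μ (sz (sz ⟨⁅(a : Γ), (b : Γ)⁆, hmem _ a.2 _ b.2⟩)) = B (sy (sy a)) (sf (sf b)) :=
    congrArg μ (Subtype.ext (by
      show s * (s * ⁅(a : Γ), (b : Γ)⁆ * s⁻¹) * s⁻¹ = _
      rw [conj_commutatorElement, conj_commutatorElement]; rfl))
  rw [← hsz, e1, e2, hssY, hssF] at s3
  change B a b * _ * _ = 1 at s3
  set D := B (sy a) (sf b) with hD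
  have t1 : B a b = (B (sy a) b ^ 2)⁻¹ := eq_inv_of_mul_eq_one_left (s1 b)
  have t2 : B (sy a) b = (D ^ 2)⁻¹ := eq_inv_of_mul_eq_one_left (s2 (sy a))
  rw [t1, t2, inv_pow, inv_inv, mul_assoc, ← pow_two, ← pow_mul, ← pow_add] at s3
  have hD1 : D = 1 := hom_eq_one_of_pow (B (sy a)) (k := 6) hcop.symm s3
  have hab : B k g ^ 4 = 1 := by
    have h1 : B a b = B k g * B k g * (B k g * B k g) := by
      rw [ha, hb]
      simp only [map_mul, MonoidHom.mul_apply, hBy, hBf]
    rw [t1, t2, hD1] at h1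
    rw [show (4 : ℕ) = 2 + 2 from rfl, pow_add, pow_two, ← h1]
    simp
  exact hom_eq_one_of_pow (B k) (k := 4)
    ((Nat.Coprime.coprime_dvd_right (show 2 ∣ 6 by norm_num) hcop).symm.pow_left 2) hab

include hA hF hcop hIF hIY hIZ hZF in
/-- The element of order three fixing the weight kills the pairing. -/
theorem commPair_rotation (hcard : (Nat.card F : K) ≠ 0) (hYab : Y = F ∨ ∀ a ∈ Y, ∀ b ∈ Y, a * b = b * a)
    (hZY : Z ≤ Y) {w : W} (hw0 : w ≠ 0) (hw : IsWeight (ρ.comp Z.subtype) μ w) (hμ : μ ≠ 1)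
    (hs : Fixes Z μ s) : commPair μ hYF hmem hcen = 1 := by
  have : Finite Y := Finite.of_injective _ (inclusion_injective hYF)
  have : Finite Z := Finite.of_injective _ (inclusion_injective hZF)
  have d := hA.datum
  have hcopY := hcop.coprime_dvd_left (card_dvd_of_le hYF)
  have hcopZ := hcop.coprime_dvd_left (card_dvd_of_le hZF)
  have hcardY : (Nat.card Y : K) ≠ 0 := fun h => by
    obtain ⟨c, hc⟩ := card_dvd_of_le hYF
    exact hcard (by rw [hc, Nat.cast_mul, h, zero_mul])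
  have hcardZ : (Nat.card Z : K) ≠ 0 := fun h => by
    obtain ⟨c, hc⟩ := card_dvd_of_le hZF
    exact hcard (by rw [hc, Nat.cast_mul, h, zero_mul])
  have hquad : ∀ v, IsWeight (ρ.comp Z.subtype) μ v → v + ρ s v + ρ (s * s) v = 0 := fun v hv => by
    by_cases hv0 : v = 0
    · simp [hv0]
    rcases weight_cases hA hIZ (hF.mono hZF) hcopZ hcardZ hμ hv0 hv with ⟨-, -, -, -, h⟩ | ⟨h, -⟩
    · exact h
    · exact absurd hs h
  have hnorefl : ¬ Fixes Z μ t ∧ ¬ Fixes Z μ (t * s) ∧ ¬ Fixes Z μ (t * (s * s)) := by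
    rcases weight_cases hA hIZ (hF.mono hZF) hcopZ hcardZ hμ hw0 hw with ⟨-, h1, h2, h3, -⟩ | ⟨h, -⟩
    · exact ⟨h1, h2, h3⟩
    · exact absurd hs h
  set B := commPair μ hYF hmem hcen with hB
  set sy := cj Y s (fun y hy => (hIY y hy).1) with hsy
  set sf := cj F s (fun y hy => (hIF y hy).1) with hsf
  have hinv : ∀ k g, B (sy k) (sf g) = B k g := fun k g =>
    commPair_fixes hYF hmem hcen hs (fun y hy => (hIY y hy).1) (fun y hy => (hIF y hy).1) k g
  have hs3f : ∀ g : F, sf (sf (sf g)) = g := fun g => Subtype.ext (by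
    rw [hsf, cj_coe, cj_coe, cj_coe]
    calc s * (s * (s * (g : Γ) * s⁻¹) * s⁻¹) * s⁻¹ = s ^ 3 * g * (s ^ 3)⁻¹ := by
          rw [pow_succ, pow_two]; group
      _ = g := by rw [d.s_pow]; simp)
  have hfixpt : ∀ k : Y, s * k * s⁻¹ = k → B k = 1 := fun k hk => by
    refine MonoidHom.ext fun g => hom_eq_one_of_fixed d hIF hcop (B k) (fun g' hg' => ?_) g ?_ ?_
    · show μ _ = 1
      rw [← map_one μ]
      refine congrArg μ (Subtype.ext ?_)
      exact commutatorElement_eq_one_iff_mul_comm.mpr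
        (commute_of_fixed d hIF hF (hYF k.2) g'.2 hk hg').eq
    · conv_lhs => rw [← show sy k = k from Subtype.ext hk]
      exact hinv k g
    · conv_lhs => rw [← show sy k = k from Subtype.ext hk]
      rw [← hsf, hinv]
      conv_lhs => rw [← show sy k = k from Subtype.ext hk]
      exact hinv k g
  have hstep : ∀ k, B (sy k) = B k → B k = 1 := fun k hk => by
    refine hom_eq_one_of_fixed d hIY hcopY B hfixpt k hk ?_
    rw [← hsy]
    refine MonoidHom.ext fun g => ?_
    conv_lhs => rw [← hs3f g]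
    rw [hinv, hk, ← hinv, hk, hs3f]
  have hsv : ∀ v, IsWeight (ρ.comp Z.subtype) μ v → IsWeight (ρ.comp Z.subtype) μ (ρ s v) :=
    fun v hv => by
      have hx : ∀ r ∈ Z, s⁻¹ * r * (s⁻¹)⁻¹ ∈ Z := fun r hr => by
        have h1 := (hIZ _ (hIZ r hr).1).1
        rw [inv_inv, d.s_inv]
        simpa [mul_assoc, d.s_inv, d.s3, d.s3'] using h1
      have h := isWeight_apply ρ hv s hx
      rwa [(comp_cj_eq_iff μ s hx).mpr hs] at h
  rcases hYab with rfl | hab
  · let W' := weightSpace (ρ.comp Z.subtype) μ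
    let ρ' : Y →* Module.End K W' :=
      { toFun := fun g => (ρ g).restrict fun v hv => weight_apply_mem hYF hcen hv g.2
        map_one' := LinearMap.ext fun v => Subtype.ext (by
          show ρ 1 (v : W) = v
          rw [map_one]; rfl)
        map_mul' := fun a b => LinearMap.ext fun v => Subtype.ext (by
          show ρ ((a : Γ) * b) (v : W) = ρ a (ρ b v)
          rw [map_mul]; rfl) }
    have : Nontrivial W' := (Submodule.nontrivial_iff_ne_bot).mpr fun h => hw0 (by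
      have h1 : w ∈ W' := hw
      rwa [h, Submodule.mem_bot] at h1)
    have := Fintype.ofFinite Y
    refine pairing_eq_one hcard hcop hA.two_ne hA.three_ne ρ' B
      (fun g h => LinearMap.ext fun v => Subtype.ext (commPair_spec hYF hmem hcen v.2 g h))
      sy hs3f ((ρ s).restrict hsv) (fun g => LinearMap.ext fun v => Subtype.ext ?_)
      (LinearMap.ext fun v => Subtype.ext ?_) hinv hstep
    · show ρ s (ρ (g : Γ) v) = ρ (s * (g : Γ) * s⁻¹) (ρ s v)
      rw [← Module.End.mul_apply, ← Module.End.mul_apply, ← map_mul, ← map_mul, inv_mul_cancel_right]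
    · show ρ s (ρ s (v : W)) + ρ s v + v = 0
      rw [← Module.End.mul_apply, ← map_mul]
      have h := hquad v v.2
      rw [← h]; abel
  · refine MonoidHom.ext fun k => hstep k (MonoidHom.ext fun g => ?_)
    have hcomm : ∀ a b : Y, Commute ((ρ.comp Y.subtype) a) ((ρ.comp Y.subtype) b) := fun a b => by
      show ρ (a : Γ) * ρ (b : Γ) = ρ (b : Γ) * ρ (a : Γ)
      rw [← map_mul, ← map_mul, hab a a.2 b b.2]
    obtain ⟨ν, v, hv, hv0, hν⟩ := exists_weight_mem (ρ.comp Y.subtype) hcomm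
      (weightSpace (ρ.comp Z.subtype) μ)
      (fun h => hw0 (by
        have h1 : w ∈ weightSpace (ρ.comp Z.subtype) μ := hw
        rwa [h, Submodule.mem_bot] at h1))
      (fun r u hu => weight_apply_mem hYF hcen hu (hYF r.2))
    have hinvY : ∀ (ν : Y →* Kˣ) (v : W), v ≠ 0 → IsWeight (ρ.comp Z.subtype) μ v →
        IsWeight (ρ.comp Y.subtype) ν v → ν (sy k) = ν k := by
      intro ν v hv0 hv hν
      have hres : ∀ z : Z, ν ⟨z, hZY z.2⟩ = μ z := fun z =>
        Units.ext (smul_left_injective K hv0 ((hν ⟨z, hZY z.2⟩).symm.trans (hv z)))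
      have hν1 : ν ≠ 1 := fun h => hμ (MonoidHom.ext fun z => by rw [← hres, h]; rfl)
      have hdown : ∀ x, (∀ z ∈ Z, x⁻¹ * z * x ∈ Z) → Fixes Y ν x → Fixes Z μ x :=
        fun x hx hfx z => by
          obtain ⟨h1, e1⟩ := hfx ⟨z, hZY z.2⟩
          refine ⟨hx z z.2, ?_⟩
          rw [← hres, ← hres]
          exact e1
      have hzt : ∀ z ∈ Z, t⁻¹ * z * t ∈ Z := fun z hz => by
        have h1 := (hIZ z hz).2
        rw [d.t_inv] at h1 ⊢; exact h1
      have hzts : ∀ z ∈ Z, (t * s)⁻¹ * z * (t * s) ∈ Z := fun z hz => by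
        have h1 := (hIZ.rot z hz).2
        rw [d.rot.t_inv] at h1 ⊢; exact h1
      have hztss : ∀ z ∈ Z, (t * (s * s))⁻¹ * z * (t * (s * s)) ∈ Z := fun z hz => by
        have h1 := (hIZ.rot.rot z hz).2
        rw [show t * s * s = t * (s * s) from mul_assoc t s s] at h1
        rw [d.rot2.t_inv] at h1 ⊢; exact h1
      rcases weight_cases hA hIY (hF.mono hYF) hcopY hcardY hν1 hv0 hν with
        ⟨h, -⟩ | ⟨-, h | h | h⟩
      · obtain ⟨h1, e1⟩ := ((fixes_ss_iff d ν).mpr h) k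
        rw [← e1]
        refine congrArg ν (Subtype.ext (show s * k * s⁻¹ = (s * s)⁻¹ * k * (s * s) from ?_))
        rw [← d.s_inv, inv_inv]
      · exact absurd (hdown t hzt h.1) hnorefl.1
      · exact absurd (hdown _ hzts h.1) hnorefl.2.1
      · exact absurd (hdown _ hztss h.1) hnorefl.2.2
    have hgv0 : ρ (g : Γ) v ≠ 0 := fun h => hv0 (by
      have h1 := congrArg (ρ (g : Γ)⁻¹) h
      rwa [map_zero, ← Module.End.mul_apply, ← map_mul, inv_mul_cancel, map_one,
        Module.End.one_apply] at h1)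
    let ν' : Y →* Kˣ := (MonoidHom.eval g).comp B * ν
    have hν' : IsWeight (ρ.comp Y.subtype) ν' (ρ (g : Γ) v) := fun y => by
      show ρ (y : Γ) (ρ (g : Γ) v) = ((B y g * ν y : Kˣ) : K) • _
      rw [commPair_spec hYF hmem hcen hv y g, show ρ (y : Γ) v = _ from hν y, map_smul, smul_smul,
        Units.val_mul]
    have h1 := hinvY ν' _ hgv0 (weight_apply_mem hYF hcen hv g.2) hν'
    have h2 := hinvY ν v hv0 hv hν
    change B (sy k) g * ν (sy k) = B k g * ν k at h1
    rw [h2] at h1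
    exact mul_right_cancel h1

end step

theorem lowerCentralSeries_conj_mem {F : Subgroup Γ} {x : Γ} (hx : ∀ y ∈ F, x * y * x⁻¹ ∈ F)
    (n : ℕ) : ∀ y ∈ F.lowerCentralSeries n, x * y * x⁻¹ ∈ F.lowerCentralSeries n := by
  intro y hy
  have h1 : x * y * x⁻¹ ∈ (F.lowerCentralSeries n).map (MulAut.conj x).toMonoidHom := ⟨y, hy, rfl⟩
  rw [map_lowerCentralSeries] at h1
  refine lowerCentralSeries_mono n ?_ h1
  rintro _ ⟨z, hz, rfl⟩
  exact hx z hz

/-- A nilpotent group of operators is commutative. -/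
theorem commutative_of_nilpotent (hA : Action ρ s t) (hρ : Function.Injective ρ) (F : Subgroup Γ)
    [Finite F] (hnil : Group.IsNilpotent F) (hI : Inv s t F) (hF : Free s t F)
    (hcop : (Nat.card F).Coprime 6) (hcard : (Nat.card F : K) ≠ 0) :
    ∀ a ∈ F, ∀ b ∈ F, a * b = b * a := by
  classical
  have hex := (isNilpotent_iff_lowerCentralSeries F).mp hnil
  set n := Nat.find hex with hn
  by_cases hn2 : n ≤ 1
  · intro a ha b hb
    have h1 : F.lowerCentralSeries 1 = ⊥ := by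
      rw [eq_bot_iff, ← Nat.find_spec hex]
      exact F.lowerCentralSeries_antitone hn2
    rw [Subgroup.lowerCentralSeries_succ, Subgroup.lowerCentralSeries_zero] at h1
    exact commutatorElement_eq_one_iff_mul_comm.mp
      (mem_bot.mp (h1.le (commutator_mem_commutator ha hb)))
  exfalso
  obtain ⟨c, hc⟩ : ∃ c, n = c + 2 := ⟨n - 2, by omega⟩
  set Y := F.lowerCentralSeries c with hY
  set Z := F.lowerCentralSeries (c + 1) with hZ
  have hZne : Z ≠ ⊥ := Nat.find_min hex (by omega)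
  have hZtop : ⁅Z, F⁆ = ⊥ := by
    rw [hZ, ← Subgroup.lowerCentralSeries_succ, show c + 1 + 1 = n by omega]
    exact Nat.find_spec hex
  have hYF : Y ≤ F := lowerCentralSeries_le_self F c
  have hZF : Z ≤ F := lowerCentralSeries_le_self F (c + 1)
  have hZY : Z ≤ Y := F.lowerCentralSeries_antitone (Nat.le_succ c)
  have hmem : ∀ k ∈ Y, ∀ g ∈ F, ⁅k, g⁆ ∈ Z := fun k hk g hg => commutator_mem_commutator hk hg
  have hcen : ∀ z ∈ Z, ∀ g ∈ F, z * g = g * z := fun z hz g hg =>
    commutatorElement_eq_one_iff_mul_comm.mp (mem_bot.mp (hZtop.le (commutator_mem_commutator hz hg)))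
  have hInv : ∀ m, Inv s t (F.lowerCentralSeries m) := fun m y hy =>
    ⟨lowerCentralSeries_conj_mem (fun z hz => (hI z hz).1) m y hy,
      lowerCentralSeries_conj_mem (fun z hz => (hI z hz).2) m y hy⟩
  have hYab : Y = F ∨ ∀ a ∈ Y, ∀ b ∈ Y, a * b = b * a := by
    rcases Nat.eq_zero_or_pos c with rfl | hc1
    · exact Or.inl rfl
    refine Or.inr ?_
    have hle : Y ≤ ⁅F, F⁆ := F.lowerCentralSeries_antitone hc1
    have hYZ : ⁅⁅Y, F⁆, F⁆ = ⊥ := hZtop
    have h := commutator_commutator_eq_bot_of_rotate (H₁ := F) (H₂ := F) (H₃ := Y)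
      (by rw [Subgroup.commutator_comm F Y]; exact hYZ) hYZ
    intro a ha b hb
    exact commutatorElement_eq_one_iff_mul_comm.mp
      (mem_bot.mp (h.le (commutator_mem_commutator (hle ha) hb)))
  have : Finite Z := Finite.of_injective _ (inclusion_injective hZF)
  have hcopZ := hcop.coprime_dvd_left (card_dvd_of_le hZF)
  have hcardZ : (Nat.card Z : K) ≠ 0 := fun h => by
    obtain ⟨m, hm⟩ := card_dvd_of_le hZF
    exact hcard (by rw [hm, Nat.cast_mul, h, zero_mul])
  obtain ⟨⟨z, hz⟩, hz1⟩ : ∃ z : Z, z ≠ 1 := by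
    have := (nontrivial_iff_ne_bot Z).mpr hZne
    exact exists_ne 1
  obtain ⟨u, hu⟩ : ∃ u, ρ z u ≠ u := by
    by_contra h
    push Not at h
    exact hz1 (Subtype.ext (hρ ((LinearMap.ext h).trans (map_one ρ).symm)))
  obtain ⟨μ, w, -, hw0, hw, hμz⟩ := exists_weight_ne_one hcardZ (ρ.comp Z.subtype)
    (fun a b => by
      show ρ (a : Γ) * ρ (b : Γ) = ρ (b : Γ) * ρ (a : Γ)
      rw [← map_mul, ← map_mul, hcen a a.2 b (hZF b.2)])
    ⊤ (fun _ _ _ => trivial) (z := ⟨z, hz⟩) (u := u) trivial hu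
  have hμ : μ ≠ 1 := fun h => hμz (by rw [h]; rfl)
  have hB : commPair μ hYF hmem hcen = 1 := by
    rcases weight_cases hA (hInv _) (hF.mono hZF) hcopZ hcardZ hμ hw0 hw with
      ⟨hs, -⟩ | ⟨hs, h | h | h⟩
    · exact commPair_rotation hYF hmem hcen hA hF hcop hI (hInv c) (hInv _) hZF hcard hYab hZY hw0
        hw hμ hs
    · exact commPair_reflection hYF hmem hcen hA hF hcop hI (hInv c) (hInv _) hZF hcard hw0 hw hμ
        h.1 hs
    · exact commPair_reflection hYF hmem hcen hA.rot hF.rot hcop hI.rot (hInv c).rot (hInv _).rot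
        hZF hcard hw0 hw hμ h.1 hs
    · have h' : Fixes Z μ (t * s * s) := by rw [mul_assoc]; exact h.1
      exact commPair_reflection hYF hmem hcen hA.rot.rot hF.rot.rot hcop hI.rot.rot
        (hInv c).rot.rot (hInv _).rot.rot hZF hcard hw0 hw hμ h' hs
  apply hμ
  have hker : Z ≤ μ.ker.map Z.subtype := by
    show ⁅Y, F⁆ ≤ _
    rw [commutator_le]
    intro k hk g hg
    exact ⟨⟨⁅k, g⁆, hmem k hk g hg⟩,
      MonoidHom.mem_ker.mpr (DFunLike.congr_fun (DFunLike.congr_fun hB ⟨k, hk⟩) ⟨g, hg⟩), rfl⟩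
  refine MonoidHom.ext fun x => ?_
  obtain ⟨y, hy, hyx⟩ := hker x.2
  rwa [← Subtype.ext hyx]

end Cfsg.Lib.SymThree
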