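import Mathlib

/-!
# Centralizer of an operator with two eigenvalues
-/

set_option autoImplicit false

namespace Cfsg.Lib.SymThree

open Module

variable {K : Type*} [Field K] [IsAlgClosed K] {W : Type*} [AddCommGroup W] [Module K W]
  [FiniteDimensional K W]

/-- A root of `S ^ 2 + S + 1` commutes with at least half of all operators. -/
theorem centralizer_dim_ge (S : Module.End K W) (hquad : S * S + S + 1 = 0) (h2 : (2 : K) ≠ 0)
    (h3 : (3 : K) ≠ 0) :
    finrank K W * finrank K W ≤
      2 * finrank K (LinearMap.ker (LinearMap.mulLeft K S - LinearMap.mulRight K S)) := by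
  obtain ⟨z, hz⟩ := IsAlgClosed.exists_eq_mul_self (-3 : K)
  set ω : K := (z - 1) / 2 with hω
  set ω' : K := (-z - 1) / 2 with hω'
  have hsum : ω + ω' = -1 := by rw [hω, hω']; field_simp; ring
  have hprod : ω * ω' = 1 := by
    rw [hω, hω']; field_simp; linear_combination hz
  have hne : ω - ω' ≠ 0 := by
    intro h
    have hz0 : z = 0 := by
      rw [hω, hω'] at h
      have h' : z * 2 = 0 := by field_simp at h; linear_combination h
      exact (mul_eq_zero.mp h').resolve_right h2
    rw [hz0, mul_zero, neg_eq_zero] at hz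
    exact h3 hz
  have hS : ∀ w, S (S w) = -(S w) - w := fun w => by
    have h := LinearMap.congr_fun hquad w
    simp only [LinearMap.add_apply, Module.End.mul_apply, Module.End.one_apply,
      LinearMap.zero_apply] at h
    rw [eq_sub_iff_add_eq, eq_neg_iff_add_eq_zero]
    rw [← h]; abel
  set V1 := LinearMap.ker (S - ω • (1 : Module.End K W)) with hV1
  set V2 := LinearMap.ker (S - ω' • (1 : Module.End K W)) with hV2
  have m1 : ∀ w, w ∈ V1 ↔ S w = ω • w := fun w => by simp [V1, sub_eq_zero]
  have m2 : ∀ w, w ∈ V2 ↔ S w = ω' • w := fun w => by simp [V2, sub_eq_zero]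
  have k1 : ∀ w, S w - ω' • w ∈ V1 := fun w => by
    rw [m1, map_sub, map_smul, hS, smul_sub, smul_smul, hprod, one_smul,
      show ω' = -1 - ω by linear_combination hsum, sub_smul, neg_one_smul]
    abel
  have k2 : ∀ w, S w - ω • w ∈ V2 := fun w => by
    rw [m2, map_sub, map_smul, hS, smul_sub, smul_smul, mul_comm, hprod, one_smul,
      show ω = -1 - ω' by linear_combination hsum, sub_smul, neg_one_smul]
    abel
  have hc : IsCompl V1 V2 := by
    constructor
    · rw [Submodule.disjoint_def]
      intro w h1 h2'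
      rw [m1] at h1; rw [m2] at h2'
      rw [h1] at h2'
      have : (ω - ω') • w = 0 := by rw [sub_smul, h2', sub_self]
      exact (smul_eq_zero.mp this).resolve_left hne
    · rw [codisjoint_iff, Submodule.eq_top_iff']
      intro w
      have e : w = (ω - ω')⁻¹ • (S w - ω' • w) + (-(ω - ω')⁻¹) • (S w - ω • w) := by
        rw [neg_smul, ← sub_eq_add_neg, ← smul_sub,
          show S w - ω' • w - (S w - ω • w) = (ω - ω') • w by rw [sub_smul]; abel, smul_smul,
          inv_mul_cancel₀ hne, one_smul]
      rw [e]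
      exact Submodule.add_mem_sup (V1.smul_mem _ (k1 w)) (V2.smul_mem _ (k2 w))
  let Φ : (V1 →ₗ[K] V1) × (V2 →ₗ[K] V2) →ₗ[K] Module.End K W :=
    (LinearMap.ofIsComplProd hc).comp
      ((LinearMap.llcomp K V1 V1 W V1.subtype).prodMap (LinearMap.llcomp K V2 V2 W V2.subtype))
  have a1 : ∀ f (u : V1), Φ f u = f.1 u := fun f u => LinearMap.ofIsCompl_apply_left hc u
  have a2 : ∀ f (u : V2), Φ f u = f.2 u := fun f u => LinearMap.ofIsCompl_apply_right hc u
  have hinj : Function.Injective Φ := fun f g h => by
    refine Prod.ext (LinearMap.ext fun u => Subtype.ext ?_) (LinearMap.ext fun u => Subtype.ext ?_)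
    · rw [← a1, ← a1, h]
    · rw [← a2, ← a2, h]
  have hmem : ∀ f, Φ f ∈ LinearMap.ker (LinearMap.mulLeft K S - LinearMap.mulRight K S) := fun f => by
    rw [LinearMap.mem_ker, LinearMap.sub_apply, LinearMap.mulLeft_apply, LinearMap.mulRight_apply,
      sub_eq_zero]
    refine LinearMap.ext fun w => ?_
    obtain ⟨a, ha, b, hb, rfl⟩ := Submodule.mem_sup.mp (hc.sup_eq_top ▸ Submodule.mem_top (x := w))
    have e1 : ∀ u : V1, S (Φ f u) = Φ f (S u) := fun u => by
      rw [(m1 _).mp u.2, map_smul, a1]
      exact (m1 _).mp (f.1 u).2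
    have e2 : ∀ u : V2, S (Φ f u) = Φ f (S u) := fun u => by
      rw [(m2 _).mp u.2, map_smul, a2]
      exact (m2 _).mp (f.2 u).2
    simp only [Module.End.mul_apply, map_add]
    rw [e1 ⟨a, ha⟩, e2 ⟨b, hb⟩]
  have hle := LinearMap.finrank_le_finrank_of_injective (f := Φ.codRestrict _ hmem)
    (fun f g h => hinj (congrArg Subtype.val h))
  rw [finrank_prod, finrank_linearMap, finrank_linearMap] at hle
  have hn := Submodule.finrank_add_eq_of_isCompl hc
  rw [← hn]
  nlinarith [mul_nonneg (sq_nonneg ((finrank K V1 : ℤ) - finrank K V2)) zero_le_one, hle]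

end Cfsg.Lib.SymThree
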