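import Cfsg.Agent.Lib.SymThree.Datum
import Cfsg.Agent.Lib.SymThree.Weights

/-!
# Stabilizers of weights and homomorphisms of normalized subgroups
-/

set_option autoImplicit false

namespace Cfsg.Lib.SymThree

open Subgroup

variable {Γ : Type*} [Group Γ]

/-- Conjugation by an element as an endomorphism of a subgroup it normalizes. -/
def cj (Y : Subgroup Γ) (x : Γ) (hx : ∀ y ∈ Y, x * y * x⁻¹ ∈ Y) : Y →* Y where
  toFun y := ⟨x * y * x⁻¹, hx y y.2⟩
  map_one' := Subtype.ext (by simp)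
  map_mul' a b := Subtype.ext (by simp [mul_assoc])

theorem cj_coe (Y : Subgroup Γ) (x : Γ) (hx : ∀ y ∈ Y, x * y * x⁻¹ ∈ Y) (y : Y) :
    (cj Y x hx y : Γ) = x * y * x⁻¹ := rfl

/-- Endomorphisms preserve the derived group. -/
theorem commutator_map_mem {Y : Type*} [Group Y] (f : Y →* Y) {w : Y} (hw : w ∈ commutator Y) :
    f w ∈ commutator Y := by
  rw [← QuotientGroup.eq_one_iff]
  show Abelianization.of (f w) = 1
  rw [← Abelianization.map_of, show Abelianization.of w = 1 from (QuotientGroup.eq_one_iff _).mpr hw,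
    map_one]

section hom

variable {A : Type*} [CommGroup A] {s t : Γ} {Y : Subgroup Γ} [Finite Y]

/-- A value whose power prime to the order is trivial is trivial. -/
theorem hom_eq_one_of_pow (φ : Y →* A) {k : ℕ} (hk : k.Coprime (Nat.card Y)) {y : Y}
    (h : φ y ^ k = 1) : φ y = 1 := by
  have h2 : φ y ^ Nat.card Y = 1 := by rw [← map_pow, pow_card_eq_one', map_one]
  have h3 := pow_gcd_eq_one.mpr ⟨h, h2⟩
  rwa [hk.gcd_eq_one, pow_one] at h3

theorem abelianization_free (d : Datum s t) (hI : Inv s t Y) (hF : Free s t Y)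
    (hcop : (Nat.card Y).Coprime 6) {a : Abelianization Y}
    (hs : Abelianization.map (cj Y s fun y hy => (hI y hy).1) a = a)
    (ht : Abelianization.map (cj Y t fun y hy => (hI y hy).2) a = a) : a = 1 := by
  obtain ⟨y, rfl⟩ := QuotientGroup.mk_surjective a
  set N : Subgroup Γ := (commutator Y).map Y.subtype with hN
  have hNY : N ≤ Y := map_subtype_le _
  have : Finite N := Finite.of_injective _ (inclusion_injective hNY)
  have hNcj : ∀ (x : Γ) (hx : ∀ z ∈ Y, x * z * x⁻¹ ∈ Y), ∀ z ∈ N, x * z * x⁻¹ ∈ N := by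
    rintro x hx _ ⟨w, hw, rfl⟩
    refine ⟨cj Y x hx w, ?_, rfl⟩
    exact commutator_map_mem (cj Y x hx) hw
  have hmem : ∀ (x : Γ) (hx : ∀ z ∈ Y, x * z * x⁻¹ ∈ Y),
      Abelianization.map (cj Y x hx) (Abelianization.of y) = Abelianization.of y →
      (y : Γ)⁻¹ * (x * y * x⁻¹) ∈ N := by
    intro x hx h
    rw [Abelianization.map_of] at h
    exact ⟨y⁻¹ * cj Y x hx y, QuotientGroup.eq.mp h.symm, rfl⟩
  have h1 := mem_of_fixed_mod d hF hNY (fun z hz =>
      ⟨hNcj s (fun z hz => (hI z hz).1) z hz, hNcj t (fun z hz => (hI z hz).2) z hz⟩)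
    (hcop.coprime_dvd_left (card_dvd_of_le hNY)) y.2 (hmem s _ hs) (hmem t _ ht)
  obtain ⟨w, hw, hwy⟩ := h1
  exact (QuotientGroup.eq_one_iff _).mpr (Subtype.ext hwy ▸ hw)

/-- Invariance under the involution kills orbit sums of the element of order three. -/
theorem hom_sum_three (d : Datum s t) (hI : Inv s t Y) (hF : Free s t Y)
    (hcop : (Nat.card Y).Coprime 6) (φ : Y →* A)
    (ht : ∀ y, φ (cj Y t (fun y hy => (hI y hy).2) y) = φ y) (y : Y) :
    φ y * φ (cj Y s (fun y hy => (hI y hy).1) y)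
      * φ (cj Y s (fun y hy => (hI y hy).1) (cj Y s (fun y hy => (hI y hy).1) y)) = 1 := by
  set cs := cj Y s (fun y hy => (hI y hy).1) with hcs
  set ct := cj Y t (fun y hy => (hI y hy).2) with hct
  set S := Abelianization.map cs with hS
  set T := Abelianization.map ct with hT
  have hS3 : ∀ a, S (S (S a)) = a := fun a => by
    obtain ⟨z, rfl⟩ := QuotientGroup.mk_surjective a
    show S (S (S (Abelianization.of z))) = Abelianization.of z
    rw [Abelianization.map_of, Abelianization.map_of, Abelianization.map_of]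
    refine congrArg _ (Subtype.ext ?_)
    rw [cj_coe, cj_coe, cj_coe]
    calc s * (s * (s * (z : Γ) * s⁻¹) * s⁻¹) * s⁻¹ = s ^ 3 * z * (s ^ 3)⁻¹ := by
          rw [pow_succ, pow_two]; group
      _ = z := by rw [d.s_pow]; simp
  have hT2 : ∀ a, T (T a) = a := fun a => by
    obtain ⟨z, rfl⟩ := QuotientGroup.mk_surjective a
    show T (T (Abelianization.of z)) = Abelianization.of z
    rw [Abelianization.map_of, Abelianization.map_of]
    refine congrArg _ (Subtype.ext ?_)
    rw [cj_coe, cj_coe]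
    calc t * (t * (z : Γ) * t⁻¹) * t⁻¹ = (t * t) * z * (t * t)⁻¹ := by group
      _ = z := by rw [d.t_mul]; simp
  have hST : ∀ a, S (T a) = T (S (S a)) := fun a => by
    obtain ⟨z, rfl⟩ := QuotientGroup.mk_surjective a
    show S (T (Abelianization.of z)) = T (S (S (Abelianization.of z)))
    rw [Abelianization.map_of, Abelianization.map_of, Abelianization.map_of, Abelianization.map_of,
      Abelianization.map_of]
    refine congrArg _ (Subtype.ext ?_)
    rw [cj_coe, cj_coe, cj_coe, cj_coe, cj_coe]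
    have hl : t * (s * s) = s * t := by
      rw [← d.s_inv, ← d.t_s_t, ← mul_assoc, ← mul_assoc, d.t_mul, one_mul]
    calc s * (t * (z : Γ) * t⁻¹) * s⁻¹ = (s * t) * z * (s * t)⁻¹ := by group
      _ = _ := by rw [← hl]; group
  let φ' : Abelianization Y →* A := Abelianization.lift φ
  set a := Abelianization.of y with ha
  set e := a * S a * S (S a) with he
  have hSe : S e = e := by
    rw [he, map_mul, map_mul, hS3, mul_comm, mul_assoc]
  have hf : e * T e = 1 := by
    refine abelianization_free d hI hF hcop ?_ ?_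
    · show S (e * T e) = e * T e
      rw [map_mul, hST, hSe, hSe]
    · show T (e * T e) = e * T e
      rw [map_mul, hT2, mul_comm]
  have hTφ : ∀ b, φ' (T b) = φ' b := fun b => by
    obtain ⟨z, rfl⟩ := QuotientGroup.mk_surjective b
    show φ' (T (Abelianization.of z)) = φ' (Abelianization.of z)
    rw [Abelianization.map_of]
    exact ht z
  have h2 : φ' e ^ 2 = 1 := by
    rw [pow_two]
    nth_rw 2 [← hTφ e]
    rw [← map_mul, hf, map_one]
  have hφe : φ' e = φ y * φ (cs y) * φ (cs (cs y)) := by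
    rw [he, ha, Abelianization.map_of, Abelianization.map_of, map_mul, map_mul]
    rfl
  have h3 : φ (y * cs y * cs (cs y)) ^ 2 = 1 := by rw [map_mul, map_mul, ← hφe, h2]
  have h4 := hom_eq_one_of_pow φ (k := 2) (Nat.Coprime.coprime_dvd_left (by norm_num)
    hcop.symm) h3
  rwa [map_mul, map_mul] at h4

/-- A homomorphism trivial on fixed points is trivial on elements with invariant values. -/
theorem hom_eq_one_of_fixed (d : Datum s t) (hI : Inv s t Y) (hcop : (Nat.card Y).Coprime 6)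
    (φ : Y →* A) (hfix : ∀ y : Y, s * y * s⁻¹ = y → φ y = 1) (y : Y)
    (h1 : φ (cj Y s (fun y hy => (hI y hy).1) y) = φ y)
    (h2 : φ (cj Y s (fun y hy => (hI y hy).1) (cj Y s (fun y hy => (hI y hy).1) y)) = φ y) :
    φ y = 1 := by
  set cs := cj Y s (fun y hy => (hI y hy).1) with hcs
  set N : Subgroup Γ := (commutator Y).map Y.subtype with hN
  have hNY : N ≤ Y := map_subtype_le _
  have : Finite N := Finite.of_injective _ (inclusion_injective hNY)
  have h3 : Fact (Nat.Prime 3) := ⟨Nat.prime_three⟩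
  set e := y * cs y * cs (cs y) with he
  have hcs3 : cs (cs (cs y)) = y := Subtype.ext (by
    rw [hcs, cj_coe, cj_coe, cj_coe]
    calc s * (s * (s * (y : Γ) * s⁻¹) * s⁻¹) * s⁻¹ = s ^ 3 * y * (s ^ 3)⁻¹ := by
          rw [pow_succ, pow_two]; group
      _ = y := by rw [d.s_pow]; simp)
  have hmem : (e : Γ)⁻¹ * (s * e * s⁻¹) ∈ N := by
    refine ⟨e⁻¹ * cs e, ?_, rfl⟩
    refine QuotientGroup.eq.mp (show Abelianization.of e = Abelianization.of (cs e) from ?_)
    rw [he, map_mul, map_mul, map_mul, map_mul, map_mul, map_mul, hcs3]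
    ac_rfl
  obtain ⟨n, hn, hfixn⟩ := exists_fixed_of_prime d.s_pow N
    (fun z hz => by
      obtain ⟨w, hw, rfl⟩ := hz
      exact ⟨cs w, commutator_map_mem cs hw, rfl⟩)
    (fun hd => Nat.prime_three.not_dvd_one ((hcop.coprime_dvd_left (card_dvd_of_le hNY)).gcd_eq_one
      ▸ Nat.dvd_gcd hd (by norm_num))) (e : Γ) hmem
  obtain ⟨w, hw, rfl⟩ := hn
  have h4 := hfix (e * w) hfixn
  have hw1 : φ w = 1 := Abelianization.commutator_subset_ker φ hw
  rw [map_mul, hw1, mul_one, he, map_mul, map_mul, h1, h2] at h4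
  exact hom_eq_one_of_pow φ (k := 3) (Nat.Coprime.coprime_dvd_left (by norm_num) hcop.symm)
    (by rw [pow_succ, pow_two]; exact h4)

end hom

section weights

variable {K : Type*} [Field K] {W : Type*} [AddCommGroup W] [Module K W]

/-- The hypotheses on the representation. -/
structure Action (ρ : Γ →* Module.End K W) (s t : Γ) : Prop where
  datum : Datum s t
  six : ρ 1 + ρ s + ρ (s * s) + ρ t + ρ (t * s) + ρ (t * (s * s)) = 0
  six_ne : (6 : K) ≠ 0

theorem Action.rot {ρ : Γ →* Module.End K W} {s t : Γ} (h : Action ρ s t) :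
    Action ρ s (t * s) where
  datum := h.datum.rot
  six_ne := h.six_ne
  six := by
    rw [show t * s * s = t * (s * s) by rw [mul_assoc],
      show t * s * (s * s) = t by rw [mul_assoc, h.datum.s3', mul_one]]
    rw [← h.six]; abel

variable {s t : Γ} {R : Subgroup Γ}

/-- `x` fixes the weight `μ` of `R`. -/
def Fixes (R : Subgroup Γ) (μ : R →* Kˣ) (x : Γ) : Prop :=
  ∀ r : R, ∃ h : x⁻¹ * r * x ∈ R, μ ⟨x⁻¹ * r * x, h⟩ = μ r

theorem fixes_one (μ : R →* Kˣ) : Fixes R μ 1 := fun r => ⟨by simp, congrArg μ (Subtype.ext (by simp))⟩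

theorem Fixes.mul {μ : R →* Kˣ} {x y : Γ} (hx : Fixes R μ x) (hy : Fixes R μ y) :
    Fixes R μ (x * y) := fun r => by
  obtain ⟨h1, e1⟩ := hx r
  obtain ⟨h2, e2⟩ := hy ⟨_, h1⟩
  have e : (x * y)⁻¹ * r * (x * y) = y⁻¹ * (x⁻¹ * r * x) * y := by group
  refine ⟨e ▸ h2, ?_⟩
  rw [← e1, ← e2]
  exact congrArg μ (Subtype.ext e)

theorem fixes_ss_iff (d : Datum s t) (μ : R →* Kˣ) : Fixes R μ (s * s) ↔ Fixes R μ s :=
  ⟨fun h => by simpa [mul_assoc, d.s3, d.s3'] using h.mul h, fun h => h.mul h⟩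

/-- The twist of a weight by a normalizing element. -/
theorem isWeight_apply (ρ : Γ →* Module.End K W) {μ : R →* Kˣ} {w : W}
    (hw : IsWeight (ρ.comp R.subtype) μ w) (x : Γ) (hx : ∀ r ∈ R, x⁻¹ * r * (x⁻¹)⁻¹ ∈ R) :
    IsWeight (ρ.comp R.subtype) (μ.comp (cj R x⁻¹ hx)) (ρ x w) := by
  intro r
  show ρ (r : Γ) (ρ x w) = ((μ (cj R x⁻¹ hx r) : Kˣ) : K) • ρ x w
  rw [← map_smul, ← hw (cj R x⁻¹ hx r), MonoidHom.comp_apply, subtype_apply, cj_coe, inv_inv,
    ← Module.End.mul_apply, ← map_mul, ← Module.End.mul_apply, ← map_mul]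
  group

theorem comp_cj_eq_iff (μ : R →* Kˣ) (x : Γ) (hx : ∀ r ∈ R, x⁻¹ * r * (x⁻¹)⁻¹ ∈ R) :
    μ.comp (cj R x⁻¹ hx) = μ ↔ Fixes R μ x := by
  have key : ∀ (r : R) (h : x⁻¹ * (r : Γ) * x ∈ R), cj R x⁻¹ hx r = ⟨x⁻¹ * r * x, h⟩ :=
    fun r h => Subtype.ext (by rw [cj_coe, inv_inv])
  constructor
  · intro h r
    have h1 : x⁻¹ * (r : Γ) * x ∈ R := by simpa using hx r r.2
    refine ⟨h1, ?_⟩
    rw [← key r h1]
    exact DFunLike.congr_fun h r
  · intro h
    refine MonoidHom.ext fun r => ?_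
    obtain ⟨h1, e1⟩ := h r
    rw [MonoidHom.comp_apply, key r h1, e1]

/-- A weight fixed by both elements is trivial. -/
theorem eq_one_of_fixes (d : Datum s t) [Finite R] (hI : Inv s t R) (hF : Free s t R)
    (hcop : (Nat.card R).Coprime 6) {μ : R →* Kˣ} (hs : Fixes R μ s) (ht : Fixes R μ t) :
    μ = 1 := by
  have hct : ∀ y, μ (cj R t (fun y hy => (hI y hy).2) y) = μ y := fun y => by
    obtain ⟨h1, e1⟩ := ht y
    rw [← e1]
    exact congrArg μ (Subtype.ext (show t * y * t⁻¹ = t⁻¹ * y * t by rw [d.t_inv]))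
  have hcs : ∀ y, μ (cj R s (fun y hy => (hI y hy).1) y) = μ y := fun y => by
    obtain ⟨h1, e1⟩ := ((fixes_ss_iff d μ).mpr hs) y
    rw [← e1]
    refine congrArg μ (Subtype.ext (show s * y * s⁻¹ = (s * s)⁻¹ * y * (s * s) from ?_))
    rw [← d.s_inv, inv_inv]
  refine MonoidHom.ext fun y => ?_
  have h := hom_sum_three d hI hF hcop μ hct y
  simp only [hcs] at h
  exact hom_eq_one_of_pow μ (k := 3) (Nat.Coprime.coprime_dvd_left (by norm_num) hcop.symm)
    (by rw [pow_succ, pow_two]; exact h)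

/-- The possible stabilizers of a nontrivial weight. -/
theorem weight_cases {ρ : Γ →* Module.End K W} (hA : Action ρ s t) [Finite R] (hI : Inv s t R)
    (hF : Free s t R) (hcop : (Nat.card R).Coprime 6) (hcard : (Nat.card R : K) ≠ 0)
    {μ : R →* Kˣ} (hμ : μ ≠ 1) {w : W} (hw0 : w ≠ 0) (hw : IsWeight (ρ.comp R.subtype) μ w) :
    (Fixes R μ s ∧ ¬ Fixes R μ t ∧ ¬ Fixes R μ (t * s) ∧ ¬ Fixes R μ (t * (s * s)) ∧
        w + ρ s w + ρ (s * s) w = 0) ∨
      (¬ Fixes R μ s ∧ ((Fixes R μ t ∧ ρ t w = -w) ∨ (Fixes R μ (t * s) ∧ ρ (t * s) w = -w) ∨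
        (Fixes R μ (t * (s * s)) ∧ ρ (t * (s * s)) w = -w))) := by
  classical
  have := Fintype.ofFinite R
  have d := hA.datum
  let N : Subgroup Γ :=
    { carrier := {x | (∀ r ∈ R, x * r * x⁻¹ ∈ R) ∧ ∀ r ∈ R, x⁻¹ * r * (x⁻¹)⁻¹ ∈ R}
      one_mem' := ⟨fun r hr => by simpa using hr, fun r hr => by simpa using hr⟩
      mul_mem' := fun {a b} ha hb => ⟨fun r hr => by
          have := ha.1 _ (hb.1 r hr); simpa [mul_assoc] using this, fun r hr => by
          have := hb.2 _ (ha.2 r hr); simpa [mul_assoc] using this⟩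
      inv_mem' := fun {a} ha => ⟨ha.2, by simpa using ha.1⟩ }
  have hsN : s ∈ N := by
    refine ⟨fun r hr => (hI r hr).1, fun r hr => ?_⟩
    rw [inv_inv]
    have := (hI _ (hI r hr).1).1
    rw [d.s_inv]
    simpa [mul_assoc, d.s_inv, d.s3, d.s3'] using this
  have htN : t ∈ N := by
    refine ⟨fun r hr => (hI r hr).2, fun r hr => ?_⟩
    rw [d.t_inv]; exact (hI r hr).2
  set P : W →ₗ[K] W := weightAvg (ρ.comp R.subtype) μ with hP
  set n : K := (Fintype.card R : K) with hn
  have hn0 : n ≠ 0 := by rwa [hn, ← Nat.card_eq_fintype_card]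
  have hpos : ∀ x ∈ N, Fixes R μ x → P (ρ x w) = n • ρ x w := fun x hx hfx => by
    have h1 := isWeight_apply ρ hw x hx.2
    rw [(comp_cj_eq_iff μ x hx.2).mpr hfx] at h1
    exact weightAvg_self _ _ h1
  have hneg : ∀ x ∈ N, ¬ Fixes R μ x → P (ρ x w) = 0 := fun x hx hfx =>
    weightAvg_ne _ (fun e => hfx ((comp_cj_eq_iff μ x hx.2).mp e)) (isWeight_apply ρ hw x hx.2)
  have hsum : P (ρ 1 w) + P (ρ s w) + P (ρ (s * s) w) + P (ρ t w) + P (ρ (t * s) w)
      + P (ρ (t * (s * s)) w) = 0 := by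
    have h := congrArg P (LinearMap.congr_fun hA.six w)
    simpa [LinearMap.add_apply, map_add] using h
  have h1w := hpos 1 N.one_mem (fixes_one μ)
  rw [map_one, Module.End.one_apply] at h1w
  rw [map_one, Module.End.one_apply, h1w] at hsum
  have htsN := N.mul_mem htN hsN
  have hssN := N.mul_mem hsN hsN
  have htssN := N.mul_mem htN hssN
  by_cases hs : Fixes R μ s
  · have hss := hs.mul hs
    have ht : ¬ Fixes R μ t := fun ht => hμ (eq_one_of_fixes d hI hF hcop hs ht)
    have hts : ¬ Fixes R μ (t * s) := fun h => ht (by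
      have h2 := h.mul hss
      rwa [mul_assoc, d.s3', mul_one] at h2)
    have htss : ¬ Fixes R μ (t * (s * s)) := fun h => ht (by
      have h2 := h.mul hs
      rwa [mul_assoc, mul_assoc, d.s3', mul_one] at h2)
    rw [hpos s hsN hs, hpos _ hssN hss, hneg t htN ht, hneg _ htsN hts, hneg _ htssN htss,
      add_zero, add_zero, add_zero, ← smul_add, ← smul_add, smul_eq_zero] at hsum
    exact Or.inl ⟨hs, ht, hts, htss, hsum.resolve_left hn0⟩
  · have hss : ¬ Fixes R μ (s * s) := fun h => hs ((fixes_ss_iff d μ).mp h)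
    rw [hneg s hsN hs, hneg _ hssN hss, add_zero, add_zero] at hsum
    refine Or.inr ⟨hs, ?_⟩
    have fin : ∀ v : W, n • w + n • v = 0 → v = -w := fun v hv => by
      rw [← smul_add, smul_eq_zero] at hv
      exact eq_neg_of_add_eq_zero_right (hv.resolve_left hn0)
    by_cases ht : Fixes R μ t
    · have hts : ¬ Fixes R μ (t * s) := fun h => hs (by
        have h2 := ht.mul h
        rwa [d.t_t] at h2)
      have htss : ¬ Fixes R μ (t * (s * s)) := fun h => hss (by
        have h2 := ht.mul h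
        rwa [d.t_t] at h2)
      rw [hpos t htN ht, hneg _ htsN hts, hneg _ htssN htss, add_zero, add_zero] at hsum
      exact Or.inl ⟨ht, fin _ hsum⟩
    · by_cases hts : Fixes R μ (t * s)
      · have htss : ¬ Fixes R μ (t * (s * s)) := fun h => hs (by
          have h2 := hts.mul h
          have e : t * s * (t * (s * s)) = s := by
            rw [d.t_s', mul_assoc, mul_assoc, d.t_t, d.s3]
          rwa [e] at h2)
        rw [hneg t htN ht, hpos _ htsN hts, hneg _ htssN htss, add_zero, add_zero] at hsum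
        exact Or.inr (Or.inl ⟨hts, fin _ hsum⟩)
      · rw [hneg t htN ht, hneg _ htsN hts, add_zero, add_zero] at hsum
        by_cases htss : Fixes R μ (t * (s * s))
        · rw [hpos _ htssN htss] at hsum
          exact Or.inr (Or.inr ⟨htss, fin _ hsum⟩)
        · rw [hneg _ htssN htss, add_zero, smul_eq_zero] at hsum
          exact absurd (hsum.resolve_left hn0) hw0

end weights

end Cfsg.Lib.SymThree
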